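import Mathlib
import Cfsg.Agent.R2.H8.NoFix.Pat_m3
import Cfsg.Agent.H65.E6Ext_m3
import Cfsg.Agent.R2.H28.SL2.ExtY_m3
import Cfsg.Agent.H65.E6Root_m3
import Cfsg.Agent.R2.H22.NR_m3
import Cfsg.Agent.R2.H22.Q7
import Cfsg.Agent.H944.E6TwE_m3
import Cfsg.Agent.FastGrp
import Cfsg.Agent.Prune
set_option linter.all false

section
prune_inst 0x7f00000000000000000000000000000000000000000000000000000000000000000000000000000000000000000000000000000000000000000000000000000000000000000000000000000000000000003fffffffffffffffffffffffffffaeffbdffffffff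

-- part: R2/H8/Core/Frame
section
prune_inst 0x10000000000000
set_option linter.all false
open scoped Cfsg.Agent.FastGrp

-- part: R2/H8/NoFix/Sel
section
/-!
# S5749, S5750, box NOFIX: the choice of an eigenvector (helper8)

* `IsE f ψ M R χ w` : `w` is a vector fixed by `ψ(A)` and an eigenvector of `M`;
* `exists_E`, `IsE.exists_gen`;
* `Best r f ψ M R χ w D` : the choice with the smallest orbit length; `exists_best`, `Best.sh`, `Best.cr`;
* `Best.finrank_Y`, `exists_form` : the rational form.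
-/

set_option autoImplicit false

namespace Cfsg.Agent.R2.H8.NoFix.Sel

open Cfsg Cfsg.Lie Module Matrix
open Cfsg.Agent.ChevalleyStructure
open Cfsg.Agent.ChevalleyStructure.E6Min.Basic Cfsg.Agent.ChevalleyStructure.E6Min.Adjoint
open Cfsg.Agent.H163.E6
open Cfsg.Agent.H952.F4 (sh cr tf)
open Cfsg.Agent.H952.F4.Jord
open Cfsg.Agent.H65.E6Emb (emb emb_emb ext)
open Cfsg.Agent.R2.H9.E6 Cfsg.Agent.R2.H8.NoFix.Aut Cfsg.Agent.R2.H8.NoFix.MS Cfsg.Agent.R2.H8.NoFix.Desc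
open Cfsg.Agent.R2.GEO (Pair)

universe u v w

/-! ### common eigenvectors -/

theorem exists_common {k : Type*} [Field k] [IsAlgClosed k] {V : Type*} [AddCommGroup V] [Module k V]
    [FiniteDimensional k V] {G : Type*} (θ : G → Module.End k V) (c : ℕ) : ∀ P : Submodule k V, finrank k P = c →
    P ≠ ⊥ → (∀ g, ∀ x ∈ P, θ g x ∈ P) → (∀ g h, ∀ x ∈ P, θ g (θ h x) = θ h (θ g x)) →
    ∃ x ∈ P, x ≠ 0 ∧ ∀ g, ∃ a : k, θ g x = a • x := by
  induction c using Nat.strong_induction_on with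
  | _ c ih =>
    intro P hc hP0 hst hcomm
    by_cases hall : ∀ g, ∃ a : k, ∀ x ∈ P, θ g x = a • x
    · obtain ⟨x, hx, hx0⟩ := Submodule.exists_mem_ne_zero_of_ne_bot hP0
      exact ⟨x, hx, hx0, fun g => (hall g).imp fun a ha => ha x hx⟩
    · push Not at hall
      obtain ⟨g, hg⟩ := hall
      have hnt : Nontrivial P := Submodule.nontrivial_iff_ne_bot.2 hP0
      obtain ⟨a, ha⟩ := Module.End.exists_eigenvalue ((θ g).restrict (hst g))
      obtain ⟨y, hy⟩ := ha.exists_hasEigenvector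
      let Q : Submodule k V := P ⊓ Module.End.eigenspace (θ g) a
      have hyQ : (y : V) ∈ Q := by
        refine Submodule.mem_inf.2 ⟨y.2, Module.End.mem_eigenspace_iff.2 ?_⟩
        have h1 := Module.End.mem_eigenspace_iff.1 hy.1
        exact congrArg Subtype.val h1
      have hQ0 : Q ≠ ⊥ := by
        intro h0
        rw [h0, Submodule.mem_bot] at hyQ
        exact hy.2 (Subtype.ext hyQ)
      have hQP : Q < P := by
        refine lt_of_le_of_ne inf_le_left ?_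
        intro h1
        obtain ⟨x, hx, hxg⟩ := hg a
        apply hxg
        rw [← h1] at hx
        exact Module.End.mem_eigenspace_iff.1 hx.2
      obtain ⟨x, hx, hx0, hxe⟩ := ih (finrank k Q) (by rw [← hc]; exact Submodule.finrank_lt_finrank_of_lt hQP) Q rfl hQ0
        (fun h x hx => Submodule.mem_inf.2 ⟨hst h x hx.1, Module.End.mem_eigenspace_iff.2 (by
          rw [hcomm g h x hx.1, Module.End.mem_eigenspace_iff.1 hx.2, map_smul])⟩)
        (fun h h' x hx => hcomm h h' x hx.1)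
      exact ⟨x, hx.1, hx0, hxe⟩

variable {F : Type u} [Field F] {K : Type v} [Field K] {k : Type w} [Field k] {f : F →+* k}
  {M : Subgroup ↥(Zgrp F)} {ψ : ProjectiveSpecialLinearGroup (Fin 2) K →* ↥(Zgrp F)}
  {R R' : Representation k ↥(Zgrp k) (I27 → k)} {χ χ' : ↥M → k} {w w' : I27 → k}

/-- common eigenvectors of `M` fixed by `ψ(A)` -/
structure IsE (f : F →+* k) (ψ : ProjectiveSpecialLinearGroup (Fin 2) K →* ↥(Zgrp F)) (M : Subgroup ↥(Zgrp F))
    (R : Representation k ↥(Zgrp k) (I27 → k)) (χ : ↥M → k) (w : I27 → k) : Prop where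
  ne : w ≠ 0
  fix : w ∈ Fx f ψ R
  eig : ∀ m : ↥M, T f R m w = χ m • w

theorem rho_t (hR : R = V k ∨ R = V' k) {t : k →+* k} (ht : ∀ x, t (f x) = f x) (g : ↥(Zgrp F)) (x : I27 → k) :
    T f R g (fun i => t (x i)) = fun i => t (T f R g x i) := by
  have h1 : t.comp f = f := RingHom.ext ht
  rw [T_apply, T_apply, ← rho_emb hR, emb_emb, h1]

theorem map_ne {t : k →+* k} (hw : w ≠ 0) : (fun i => t (w i)) ≠ 0 := by
  intro h
  apply hw
  funext i
  have h1 := congrFun h i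
  rw [Pi.zero_apply] at h1
  exact t.injective (by rw [h1, Pi.zero_apply, map_zero])

theorem map_smul' {t : k →+* k} (c : k) (x : I27 → k) : (fun i => t ((c • x) i)) = t c • fun i => t (x i) := by
  funext i
  rw [Pi.smul_apply, smul_eq_mul, map_mul]
  rfl

theorem IsE.map (h : IsE f ψ M R χ w) (hR : R = V k ∨ R = V' k) {t : k →+* k} (ht : ∀ x, t (f x) = f x) :
    IsE f ψ M R (fun m => t (χ m)) (fun i => t (w i)) where
  ne := map_ne h.ne
  fix := fun g => by rw [rho_t hR ht, mem_Fx.1 h.fix]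
  eig := fun m => by rw [rho_t hR ht, h.eig, map_smul']

theorem T_cr (hP : Pair R R') (g : ↥(Zgrp F)) (x y : I27 → k) : cr (T f R g x) (T f R g y) = T f R' g (cr x y) := by
  rcases hP with ⟨rfl, rfl⟩ | ⟨rfl, rfl⟩
  · exact Act.cr_act _ x y
  · exact Act.cr_act' _ x y

theorem T_sh (hP : Pair R R') (g : ↥(Zgrp F)) (x : I27 → k) : sh (T f R g x) = T f R' g (sh x) := by
  rcases hP with ⟨rfl, rfl⟩ | ⟨rfl, rfl⟩
  · exact Act.sh_act _ x
  · exact Act.sh_act' _ x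

theorem T_tf (hP : Pair R R') (g : ↥(Zgrp F)) (x y : I27 → k) : tf (T f R g x) (T f R' g y) = tf x y := by
  rcases hP with ⟨rfl, rfl⟩ | ⟨rfl, rfl⟩
  · exact Act.tf_act _ x y
  · rw [tf_comm, tf_comm x]
    exact Act.tf_act _ y x

theorem IsE.cr (h : IsE f ψ M R χ w) (h' : IsE f ψ M R χ' w') (hP : Pair R R') (h0 : cr w w' ≠ 0) :
    IsE f ψ M R' (fun m => χ m * χ' m) (cr w w') where
  ne := h0
  fix := fun g => by rw [← T_cr hP, mem_Fx.1 h.fix, mem_Fx.1 h'.fix]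
  eig := fun m => by rw [← T_cr hP, h.eig, h'.eig, cr_smul_left, cr_smul_right, smul_smul]

theorem IsE.sh (h : IsE f ψ M R χ w) (hP : Pair R R') (h0 : sh w ≠ 0) : IsE f ψ M R' (fun m => χ m ^ 2) (sh w) where
  ne := h0
  fix := fun g => by rw [← T_sh hP, mem_Fx.1 h.fix]
  eig := fun m => by rw [← T_sh hP, h.eig, sh_smul]

theorem IsE.ne_zero (h : IsE f ψ M R χ w) (m : ↥M) : χ m ≠ 0 := by
  intro h0
  have h1 := h.eig m
  rw [h0, zero_smul] at h1
  exact h.ne (T_eq_zero h1)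

theorem IsE.cube (h : IsE f ψ M R χ w) (hP : Pair R R') (h0 : Cfsg.Agent.H952.F4.sh (Cfsg.Agent.H952.F4.sh w) ≠ 0)
    (m : ↥M) : χ m ^ 3 = 1 := by
  have h2 : Cfsg.Agent.H952.F4.sh (Cfsg.Agent.H952.F4.sh (T f R m w)) =
      T f R m (Cfsg.Agent.H952.F4.sh (Cfsg.Agent.H952.F4.sh w)) := by
    rw [T_sh hP, T_sh hP.swap]
  rw [h.eig, sh_smul, sh_smul, sh_sh, map_smul, h.eig, smul_smul, smul_smul] at h2
  have h3 : cubicT w • w ≠ 0 := by rwa [← sh_sh]
  have h4 : cubicT w ≠ 0 := fun h4 => h3 (by rw [h4, zero_smul])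
  have h5 : ((χ m ^ 2) ^ 2 * cubicT w - cubicT w * χ m) • w = 0 := by rw [sub_smul, h2, sub_self]
  rw [smul_eq_zero, or_iff_left h.ne] at h5
  have h6 : (χ m ^ 3 - 1) * (cubicT w * χ m) = 0 := by linear_combination h5
  rw [mul_eq_zero, or_iff_left (mul_ne_zero h4 (h.ne_zero m)), sub_eq_zero] at h6
  exact h6

theorem IsE.mul (h : IsE f ψ M R χ w) (m m' : ↥M) : χ (m * m') = χ m * χ m' := by
  have h1 := h.eig (m * m')
  rw [Subgroup.coe_mul, T_mul, h.eig, map_smul, h.eig, smul_smul] at h1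
  have h2 : (χ m' * χ m - χ (m * m')) • w = 0 := by rw [sub_smul, h1, sub_self]
  rw [smul_eq_zero, or_iff_left h.ne, sub_eq_zero] at h2
  rw [← h2, mul_comm]

theorem IsE.one (h : IsE f ψ M R χ w) : χ 1 = 1 := by
  have h1 := h.mul 1 1
  rw [mul_one] at h1
  have h2 := h.ne_zero 1
  have h3 : χ 1 * (χ 1 - 1) = 0 := by linear_combination -h1
  exact sub_eq_zero.1 ((mul_eq_zero.1 h3).resolve_left h2)

theorem IsE.pow (h : IsE f ψ M R χ w) (m : ↥M) (n : ℕ) : χ (m ^ n) = χ m ^ n := by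
  induction n with
  | zero => rw [pow_zero, pow_zero, h.one]
  | succ n ih => rw [pow_succ, pow_succ, h.mul, ih]

/-- the group of the values is cyclic -/
theorem IsE.exists_gen [Finite M] (h : IsE f ψ M R χ w) :
    ∃ (m1 : ↥M) (n : ℕ), 0 < n ∧ IsPrimitiveRoot (χ m1) n ∧ ∀ m, ∃ i : ℕ, χ m = χ m1 ^ i := by
  let X0 : ↥M →* k := { toFun := χ, map_one' := h.one, map_mul' := h.mul }
  let X : ↥M →* kˣ := X0.toHomUnits
  have hX : ∀ m, (X m : k) = χ m := fun m => rfl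
  have hfin : Finite X.range := Finite.of_surjective X.rangeRestrict X.rangeRestrict_surjective
  obtain ⟨⟨g, m1, hm1⟩, hg⟩ := IsCyclic.exists_generator (α := X.range)
  refine ⟨m1, orderOf (χ m1), ?_, IsPrimitiveRoot.orderOf _, fun m => ?_⟩
  · rw [orderOf_pos_iff, isOfFinOrder_iff_pow_eq_one]
    refine ⟨Nat.card M, Nat.card_pos, ?_⟩
    rw [← h.pow, pow_card_eq_one', h.one]
  · have h1 := hg ⟨X m, m, rfl⟩
    rw [← mem_powers_iff_mem_zpowers] at h1
    obtain ⟨i, hi⟩ := h1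
    refine ⟨i, ?_⟩
    have h2 : g ^ i = X m := congrArg Subtype.val hi
    rw [← hX, ← hX, ← h2, ← hm1, Units.val_pow_eq_pow_val]

theorem exists_E [IsAlgClosed k] {ρ : Representation F ↥(Zgrp F) (I27 → F)} (hB : BC ρ R) [Finite F] [Fintype K]
    {ι : ↥M →* MulAut (ProjectiveSpecialLinearGroup (Fin 2) K)} (hA : Ac M ψ ι) {p j : ℕ}
    (hm0 : ∃ m, ∀ x, fa K (ι m) x = x ^ p ^ j) (hq : ∀ m, ∃ q, ∀ x, fa K (ι m) x = x ^ p ^ (j * q))
    (h0 : Fx f ψ R ≠ ⊥) : ∃ χ w, IsE f ψ M R χ w := by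
  obtain ⟨x, hx, hx0, he⟩ := exists_common (fun m : ↥M => (T f R (m : ↥(Zgrp F)) : Module.End k (I27 → k))) _
    (Fx f ψ R) rfl h0 (fun m x hx => hA.Fx_stable m hx) (fun m m' x hx => hA.comm_fix hB hm0 hq m m' hx)
  choose χ hχ using he
  exact ⟨χ, x, hx0, hx, hχ⟩

/-! ### the best choice -/

/-- `d` is a period of the character -/
def Per (r : ℕ) (χ : ↥M → k) (d : ℕ) : Prop := 1 ≤ d ∧ ∀ m, χ m ^ r ^ d = χ m

structure Best (r : ℕ) (f : F →+* k) (ψ : ProjectiveSpecialLinearGroup (Fin 2) K →* ↥(Zgrp F))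
    (M : Subgroup ↥(Zgrp F)) (R : Representation k ↥(Zgrp k) (I27 → k)) (χ : ↥M → k) (w : I27 → k) (D : ℕ) :
    Prop where
  rep : R = V k ∨ R = V' k
  e : IsE f ψ M R χ w
  per : Per r χ D
  fixed : ∀ i, w i ^ r ^ D = w i
  min : ∀ R' : Representation k ↥(Zgrp k) (I27 → k), (R' = V k ∨ R' = V' k) → ∀ (χ' : ↥M → k) (w' : I27 → k) (d : ℕ),
    IsE f ψ M R' χ' w' → Per r χ' d → D ≤ d

variable {r D : ℕ}

/-- the powers of the Frobenius map -/
theorem pow_hom {s : k →+* k} (hs : ∀ x, s x = x ^ r) (i : ℕ) : ∀ x, (s ^ i) x = x ^ r ^ i := by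
  induction i with
  | zero =>
    intro x
    rw [pow_zero, pow_zero, pow_one]
    rfl
  | succ i ih =>
    intro x
    rw [pow_succ, RingHom.mul_def, RingHom.comp_apply, hs, ih, ← pow_mul, ← pow_succ']

theorem hom_fix [Fintype F] {s : k →+* k} (hs : ∀ x, s x = x ^ Fintype.card F) (i : ℕ) (x : F) : (s ^ i) (f x) = f x := by
  rw [pow_hom hs, ← map_pow, FiniteField.pow_card_pow]

theorem exists_best [Fintype F] {s : k →+* k} (hs : ∀ x, s x = x ^ Fintype.card F) (hR : R = V k ∨ R = V' k)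
    (h : IsE f ψ M R χ w) {d : ℕ} (hd : Per (Fintype.card F) χ d) :
    ∃ R χ w D, Best (Fintype.card F) f ψ M R χ w D := by
  classical
  have hex : ∃ d, ∃ R : Representation k ↥(Zgrp k) (I27 → k), (R = V k ∨ R = V' k) ∧ ∃ (χ : ↥M → k) (w : I27 → k),
      IsE f ψ M R χ w ∧ Per (Fintype.card F) χ d := ⟨d, R, hR, χ, w, h, hd⟩
  obtain ⟨R, hR, χ, w, h, hD⟩ := Nat.find_spec hex
  set D := Nat.find hex with hDdef
  -- the eigenspace
  let Y : Submodule k (I27 → k) :=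
    { carrier := {y | y ∈ Fx f ψ R ∧ ∀ m : ↥M, T f R m y = χ m • y}
      add_mem' := fun {x y} hx hy => ⟨add_mem hx.1 hy.1, fun m => by rw [map_add, hx.2, hy.2, smul_add]⟩
      zero_mem' := ⟨zero_mem _, fun m => by rw [map_zero, smul_zero]⟩
      smul_mem' := fun c x hx => ⟨Submodule.smul_mem _ _ hx.1, fun m => by rw [map_smul, hx.2, smul_comm]⟩ }
  have hY0 : Y ≠ ⊥ := by
    intro h0
    have h1 : w ∈ Y := ⟨h.fix, h.eig⟩
    rw [h0, Submodule.mem_bot] at h1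
    exact h.ne h1
  obtain ⟨y, hy, hy0, hyf⟩ := exists_fixed (t := s ^ D) (Y := Y) (fun y hy => by
    refine ⟨fun g => ?_, fun m => ?_⟩
    · rw [rho_t hR (hom_fix hs D), mem_Fx.1 hy.1]
    · rw [rho_t hR (hom_fix hs D), hy.2, map_smul', pow_hom hs, hD.2]) hY0
  refine ⟨R, χ, y, D, hR, ⟨hy0, hy.1, hy.2⟩, hD, fun i => ?_, ?_⟩
  · rw [← pow_hom hs]
    exact hyf i
  · intro R' hR' χ' w' d' h' hd'
    exact Nat.find_min' hex ⟨R', hR', χ', w', h', hd'⟩

theorem Best.sh [Fintype F] {s : k →+* k} (hs : ∀ x, s x = x ^ Fintype.card F)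
    (h : Best (Fintype.card F) f ψ M R χ w D) (hP : Pair R R') (h0 : Cfsg.Agent.H952.F4.sh w ≠ 0) :
    Best (Fintype.card F) f ψ M R' (fun m => χ m ^ 2) (Cfsg.Agent.H952.F4.sh w) D where
  rep := by
    rcases hP with ⟨-, h⟩ | ⟨-, h⟩
    · exact Or.inr h
    · exact Or.inl h
  e := h.e.sh hP h0
  per := ⟨h.per.1, fun m => by rw [← pow_mul, mul_comm, pow_mul, h.per.2]⟩
  fixed := fun i => by
    have h1 := Cfsg.Agent.H65.E6Emb.sh_map (f := s ^ D) w
    have h2 : (fun i => (s ^ D) (w i)) = w := by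
      funext i
      rw [pow_hom hs, h.fixed]
    rw [h2] at h1
    rw [← pow_hom hs, ← congrFun h1 i]
  min := h.min

theorem Best.pos (h : Best r f ψ M R χ w D) : 1 ≤ D := h.per.1

/-- the conjugates -/
def wi (r : ℕ) (w : I27 → k) (i : ℕ) : I27 → k := fun l => w l ^ r ^ i

theorem Best.wi [Fintype F] {s : k →+* k} (hs : ∀ x, s x = x ^ Fintype.card F)
    (h : Best (Fintype.card F) f ψ M R χ w D) (i : ℕ) :
    IsE f ψ M R (fun m => χ m ^ Fintype.card F ^ i) (wi (Fintype.card F) w i) := by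
  have h1 := h.e.map h.rep (hom_fix hs i)
  simp only [pow_hom hs] at h1
  exact h1

theorem Best.cr [Fintype F] {s : k →+* k} (hs : ∀ x, s x = x ^ Fintype.card F)
    (h : Best (Fintype.card F) f ψ M R χ w D) (hP : Pair R R') (i : ℕ)
    (h0 : Cfsg.Agent.H952.F4.cr w (Sel.wi (Fintype.card F) w i) ≠ 0) :
    Best (Fintype.card F) f ψ M R' (fun m => χ m * χ m ^ Fintype.card F ^ i)
      (Cfsg.Agent.H952.F4.cr w (Sel.wi (Fintype.card F) w i)) D where
  rep := by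
    rcases hP with ⟨-, h⟩ | ⟨-, h⟩
    · exact Or.inr h
    · exact Or.inl h
  e := h.e.cr (h.wi hs i) hP h0
  per := ⟨h.per.1, fun m => by
    rw [mul_pow, h.per.2, ← pow_mul, mul_comm (Fintype.card F ^ i), pow_mul, h.per.2]⟩
  fixed := fun l => by
    have h1 := Cfsg.Agent.H65.E6Emb.cr_map (f := s ^ D) w (Sel.wi (Fintype.card F) w i)
    have h2 : (fun i => (s ^ D) (w i)) = w := by
      funext i
      rw [pow_hom hs, h.fixed]
    have h3 : (fun l => (s ^ D) (Sel.wi (Fintype.card F) w i l)) = Sel.wi (Fintype.card F) w i := by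
      funext l
      rw [pow_hom hs]
      show (w l ^ _ ^ i) ^ _ ^ D = w l ^ _ ^ i
      rw [← pow_mul, mul_comm, pow_mul, h.fixed]
    rw [h2, h3] at h1
    rw [← pow_hom hs, ← congrFun h1 l]
  min := h.min

/-! ### the span of the conjugates -/

/-- the span of the conjugates -/
def Y (r : ℕ) (w : I27 → k) (D : ℕ) : Submodule k (I27 → k) := Submodule.span k (Set.range fun i : Fin D => wi r w i)

theorem wi_mem {i : ℕ} (hi : i < D) : wi r w i ∈ Y r w D := Submodule.subset_span ⟨⟨i, hi⟩, rfl⟩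

theorem Best.Y_frob {s : k →+* k} (hs : ∀ x, s x = x ^ r) (h : Best r f ψ M R χ w D) :
    ∀ y ∈ Y r w D, (fun i => s (y i)) ∈ Y r w D := by
  intro y hy
  unfold Y at hy
  induction hy using Submodule.span_induction with
  | mem y hy =>
    obtain ⟨i, rfl⟩ := hy
    have h1 : (fun l => s (Sel.wi r w i l)) = Sel.wi r w (i + 1) := by
      funext l
      rw [hs]
      show (w l ^ r ^ (i : ℕ)) ^ r = w l ^ r ^ ((i : ℕ) + 1)
      rw [← pow_mul, ← pow_succ]
    show (fun l => s (Sel.wi r w i l)) ∈ _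
    rw [h1]
    rcases Nat.lt_or_ge ((i : ℕ) + 1) D with h2 | h2
    · exact wi_mem h2
    · have h3 : (i : ℕ) + 1 = D := le_antisymm i.2 h2
      have h4 : Sel.wi r w ((i : ℕ) + 1) = Sel.wi r w 0 := by
        funext l
        show w l ^ r ^ ((i : ℕ) + 1) = w l ^ r ^ 0
        rw [h3, h.fixed, pow_zero, pow_one]
      rw [h4]
      exact wi_mem h.pos
  | zero =>
    have h1 : (fun i => s ((0 : I27 → k) i)) = 0 := by
      funext i
      rw [Pi.zero_apply, map_zero]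
    rw [h1]
    exact Submodule.zero_mem _
  | add a b _ _ ha hb =>
    have h1 : (fun i => s ((a + b) i)) = (fun i => s (a i)) + fun i => s (b i) := by
      funext i
      rw [Pi.add_apply, map_add]
      rfl
    rw [h1]
    exact Submodule.add_mem _ ha hb
  | smul c a _ ha =>
    rw [map_smul']
    exact Submodule.smul_mem _ _ ha

theorem Best.Y_le [Fintype F] {s : k →+* k} (hs : ∀ x, s x = x ^ Fintype.card F)
    (h : Best (Fintype.card F) f ψ M R χ w D) : Y (Fintype.card F) w D ≤ Fx f ψ R := by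
  unfold Y
  rw [Submodule.span_le]
  rintro _ ⟨i, rfl⟩
  exact (h.wi hs i).fix

theorem Best.Y_stable [Fintype F] {s : k →+* k} (hs : ∀ x, s x = x ^ Fintype.card F)
    (h : Best (Fintype.card F) f ψ M R χ w D) (m : ↥M) {y : I27 → k} (hy : y ∈ Y (Fintype.card F) w D) :
    T f R m y ∈ Y (Fintype.card F) w D := by
  unfold Y at hy
  induction hy using Submodule.span_induction with
  | mem y hy =>
    obtain ⟨i, rfl⟩ := hy
    show T f R m (Sel.wi _ w i) ∈ _
    rw [(h.wi hs i).eig]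
    exact Submodule.smul_mem _ _ (wi_mem i.2)
  | zero => rw [map_zero]; exact Submodule.zero_mem _
  | add a b _ _ ha hb => rw [map_add]; exact Submodule.add_mem _ ha hb
  | smul c a _ ha => rw [map_smul]; exact Submodule.smul_mem _ _ ha

/-- the periods in terms of a generator -/
theorem per_iff {m1 : ↥M} (hg : ∀ m, ∃ i : ℕ, χ m = χ m1 ^ i) {d : ℕ} : Per r χ d ↔ 1 ≤ d ∧ χ m1 ^ r ^ d = χ m1 := by
  constructor
  · intro h
    exact ⟨h.1, h.2 m1⟩
  · rintro ⟨h1, h2⟩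
    refine ⟨h1, fun m => ?_⟩
    obtain ⟨i, hi⟩ := hg m
    rw [hi, ← pow_mul, mul_comm, pow_mul, h2]

theorem Best.inj {s : k →+* k} (hs : ∀ x, s x = x ^ r) (h : Best r f ψ M R χ w D) {m1 : ↥M}
    (hg : ∀ m, ∃ i : ℕ, χ m = χ m1 ^ i) : Function.Injective fun i : Fin D => χ m1 ^ r ^ (i : ℕ) := by
  have key : ∀ i j : Fin D, (i : ℕ) < j → χ m1 ^ r ^ (i : ℕ) ≠ χ m1 ^ r ^ (j : ℕ) := by
    intro i j hij he
    have h1 : (s ^ (i : ℕ)) (χ m1) = (s ^ (i : ℕ)) (χ m1 ^ r ^ ((j : ℕ) - i)) := by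
      rw [pow_hom hs, pow_hom hs, ← pow_mul, ← pow_add, Nat.sub_add_cancel hij.le]
      exact he
    have h2 := (s ^ (i : ℕ)).injective h1
    have h3 := h.min R h.rep χ w ((j : ℕ) - i) h.e ((per_iff hg).2 ⟨by omega, h2.symm⟩)
    have h4 := j.2
    omega
  intro i j he
  rcases lt_trichotomy (i : ℕ) j with h1 | h1 | h1
  · exact absurd he (key i j h1)
  · exact Fin.ext h1
  · exact absurd he.symm (key j i h1)

theorem Best.finrank_Y [Fintype F] [Finite M] {s : k →+* k} (hs : ∀ x, s x = x ^ Fintype.card F)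
    (h : Best (Fintype.card F) f ψ M R χ w D) : finrank k ↥(Y (Fintype.card F) w D) = D := by
  obtain ⟨m1, n, hn, hp, hg⟩ := h.e.exists_gen
  have h1 : LinearIndependent k (fun i : Fin D => Sel.wi (Fintype.card F) w i) :=
    Module.End.eigenvectors_linearIndependent' (T f R m1) (fun i : Fin D => χ m1 ^ Fintype.card F ^ (i : ℕ))
      (h.inj hs hg) _ (fun i => ⟨Module.End.mem_eigenspace_iff.2 ((h.wi hs i).eig m1), (h.wi hs i).ne⟩)
  have h2 := finrank_span_eq_card h1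
  rw [Fintype.card_fin] at h2
  exact h2

/-- **the rational form** -/
theorem exists_form [Fintype F] {s : k →+* k} (hs : ∀ x, s x = x ^ Fintype.card F)
    {ρ : Representation F ↥(Zgrp F) (I27 → F)} (hB : BC ρ R) {X : Submodule k (I27 → k)}
    (h1 : ∀ y ∈ X, (fun i => s (y i)) ∈ X) (h2 : ∀ m : ↥M, ∀ y ∈ X, T f R m y ∈ X) :
    ∃ W : Submodule F (I27 → F), _root_.Cfsg.Agent.H65.E6Emb.ext f W = X ∧ finrank F ↥W = finrank k ↥X ∧ ∀ g ∈ M, ∀ x ∈ W, ρ g x ∈ W := by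
  refine ⟨rat f X, ext_rat f hs h1, finrank_rat f hs h1, fun g hg x hx => ?_⟩
  rw [mem_rat] at hx ⊢
  rw [← hB.emb f g x]
  exact h2 ⟨g, hg⟩ _ hx

end Cfsg.Agent.R2.H8.NoFix.Sel
end

-- part: R2/H8/NoFix/Three
section
/-!
# S5749, S5750, box NOFIX: totally singular 3-spaces stable under `M` (helper8)

Variants of helper203's and helper65's `exists_two`, `root3`, `three_root` with a subgroup `S ≤ B` on which all
two-dimensional representations of `B` are trivial.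
-/

set_option autoImplicit false

namespace Cfsg.Agent.R2.H8.NoFix.Three

open Cfsg.Lie Cfsg.Agent.ChevalleyStructure Cfsg.Agent.ChevalleyStructure.E6Form.Cubic
  Cfsg.Agent.ChevalleyStructure.E6Form.Table Cfsg.Agent.ChevalleyStructure.E6Form.Elim Module
open Cfsg.Agent.ChevalleyStructure.E6Min.Basic (Zgrp zM zU)
open Cfsg.Agent.ChevalleyStructure.E6Min.Adjoint (ad ker_ad)
open Cfsg.Agent.H203.E6 Cfsg.Agent.H163.E6 Cfsg.Agent.H65.E6Root
open Cfsg.Agent.H184.GraphE6 (gU PU PU_sq dual dual_dual dual_mem_Zgrp coe_dual)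
open scoped commutatorElement Matrix

universe u v

variable {F : Type u} [Field F]

theorem exists_two' {B : Subgroup ↥(Zgrp F)} {S : Set ↥B} (hB : ∀ θ : ↥B →* GL (Fin 2) F, ∀ b ∈ S, θ b = 1)
    {W : Submodule F (I27 → F)} (h3 : finrank F ↥W = 3) (hW : Cfsg.Agent.H203.E6.TS W)
    (hst : ∀ b ∈ B, ∀ w ∈ W, act (b : GL I27 F) w ∈ W) :
    ∃ g ∈ Zgrp F, mp g W = Ws F T3 ∧ ∀ b ∈ S, ∀ j : Fin 2,
      cj (g * ((b : ↥(Zgrp F)) : GL I27 F) * g⁻¹) (nMat F j.val) = nMat F j.val := by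
  obtain ⟨g, hg, hgW⟩ := exists_mp_eq3 hW h3
  have hstab : ∀ b ∈ B, mp (g * (b : GL I27 F) * g⁻¹) (Ws F T3) = Ws F T3 := by
    intro b hb
    have h1 : mp (b : GL I27 F) W = W := by
      ext x
      rw [mem_mp]
      constructor
      · intro h
        have := hst b hb _ h
        rwa [act_act_inv] at this
      · intro h
        have := hst b⁻¹ (inv_mem hb) _ h
        exact this
    rw [← hgW, ← mp_mul, inv_mul_cancel_right, mp_mul, h1]
  have hmem : ∀ b : ↥B, g * ((b : ↥(Zgrp F)) : GL I27 F) * g⁻¹ ∈ Zgrp F := fun b =>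
    mul_mem (mul_mem hg b.1.2) (inv_mem hg)
  let f : ↥B →* Matrix (Fin 2) (Fin 2) F :=
    { toFun := fun b => M2 (g * ((b : ↥(Zgrp F)) : GL I27 F) * g⁻¹)
      map_one' := by
        have : g * (((1 : ↥B) : ↥(Zgrp F)) : GL I27 F) * g⁻¹ = 1 := by simp only [_root_.OneMemClass.coe_one, _root_.mul_one, _root_.mul_inv_cancel]
        rw [this, M2_one]
      map_mul' := fun a b => by
        have : g * (((a * b : ↥B) : ↥(Zgrp F)) : GL I27 F) * g⁻¹ =
            (g * ((a : ↥(Zgrp F)) : GL I27 F) * g⁻¹) * (g * ((b : ↥(Zgrp F)) : GL I27 F) * g⁻¹) := by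
          simp only [Subgroup.coe_mul]; group
        rw [this, M2_mul (hmem b) (hstab b b.2)] }
  refine ⟨g, hg, hgW, fun b hb j => ?_⟩
  have h1 := hB f.toHomUnits b hb
  have h2 : M2 (g * ((b : ↥(Zgrp F)) : GL I27 F) * g⁻¹) = 1 := congrArg Units.val h1
  have h3 : ∀ i, co (cj (g * ((b : ↥(Zgrp F)) : GL I27 F) * g⁻¹) (nMat F j.val)) i = if i = j then 1 else 0 := by
    intro i
    have := congrFun (congrFun h2 i) j
    rwa [M2, Matrix.of_apply, Matrix.one_apply] at this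
  rw [cj_eq (hmem b) (hstab b b.2) j, h3, h3]
  (revert j; simp only [_root_.Fin.forall_fin_succ, Fin.isValue, _root_.Fin.succ_zero_eq_one, _root_.IsEmpty.forall_iff, _root_.and_true, _root_.ite_smul, _root_.one_smul, _root_.zero_smul, _root_.and_imp, _root_.Fin.coe_ofNat_eq_mod, _root_.Nat.zero_mod, ↓reduceIte, _root_.one_ne_zero, _root_.add_zero, _root_.implies_true, _root_.Fin.val_succ, _root_.Fin.val_eq_zero, _root_.zero_add, _root_.zero_ne_one, _root_.and_self])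

theorem root3_core' {B : Subgroup ↥(Zgrp F)} {S : Set ↥B} (hB : ∀ θ : ↥B →* GL (Fin 2) F, ∀ b ∈ S, θ b = 1)
    {W : Submodule F (I27 → F)} (h3 : finrank F ↥W = 3) (hW : Cfsg.Agent.H203.E6.TS W)
    (hst : ∀ b ∈ B, ∀ w ∈ W, act (b : GL I27 F) w ∈ W) :
    ∃ N : Matrix I27 I27 F, Dir N ∧
      ∀ b ∈ S, (((b : ↥(Zgrp F)) : GL I27 F) : Matrix I27 I27 F) * N =
        N * (((b : ↥(Zgrp F)) : GL I27 F) : Matrix I27 I27 F) := by
  obtain ⟨g, hg, -, h⟩ := exists_two' hB h3 hW hst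
  refine ⟨cN g, cN_dir hg, fun b hb => comm_cN ?_⟩
  have h1 := h b hb 0
  rw [Fin.val_zero] at h1
  conv_rhs => rw [← h1]
  rw [cj, mul_assoc _ _ ((g * ((b : ↥(Zgrp F)) : GL I27 F) * g⁻¹ : GL I27 F) : Matrix I27 I27 F), val_inv_mul, mul_one]

theorem root3' (ρ : Representation F ↥(Zgrp F) (I27 → F)) (hρ : ρ = V F ∨ ρ = V' F) {B : Subgroup ↥(Zgrp F)} {S : Set ↥B}
    (hB : ∀ θ : ↥B →* GL (Fin 2) F, ∀ b ∈ S, θ b = 1) {W : Submodule F (I27 → F)} (h3 : finrank F ↥W = 3)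
    (hW : Cfsg.Agent.H163.E6.TS W) (hst : ∀ b ∈ B, ∀ w ∈ W, ρ b w ∈ W) :
    ∃ N : Matrix I27 I27 F, Dir N ∧
      ∀ b ∈ S, (((b : ↥(Zgrp F)) : GL I27 F) : Matrix I27 I27 F) * N =
        N * (((b : ↥(Zgrp F)) : GL I27 F) : Matrix I27 I27 F) := by
  rcases hρ with rfl | rfl
  · exact root3_core' hB h3 (TS_of hW) hst
  · obtain ⟨h1, h2⟩ := to_dual hW hst
    obtain ⟨N, hN, h⟩ := root3_core' (B := B.map (δ F)) (S := {c | ∃ b ∈ S, (δ F).subgroupMap B b = c})
      (fun θ c hc => by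
        obtain ⟨b, hb, rfl⟩ := hc
        exact hB (θ.comp ((δ F).subgroupMap B)) b hb) (by rw [finrank_mp, h3]) h1 h2
    refine ⟨Nᵀ, hN.transpose, fun b hb => ?_⟩
    have h4 := h ((δ F).subgroupMap B b) ⟨b, hb, rfl⟩
    -- transpose
    have h5 : ((((δ F).subgroupMap B b : ↥(B.map (δ F))) : ↥(Zgrp F)) : GL I27 F) =
        dual (((b : ↥(Zgrp F)) : GL I27 F)) := rfl
    rw [h5] at h4
    have h7 := congrArg Matrix.transpose h4
    rw [Matrix.transpose_mul, Matrix.transpose_mul, coe_dual, Matrix.transpose_transpose] at h7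
    -- the inverse commutes
    have h8 : ((((b : ↥(Zgrp F)) : GL I27 F)⁻¹ : GL I27 F) : Matrix I27 I27 F) * Nᵀ =
        Nᵀ * ((((b : ↥(Zgrp F)) : GL I27 F)⁻¹ : GL I27 F) : Matrix I27 I27 F) := h7.symm
    calc ((((b : ↥(Zgrp F)) : GL I27 F)) : Matrix I27 I27 F) * Nᵀ
        = ((((b : ↥(Zgrp F)) : GL I27 F)) : Matrix I27 I27 F) * (Nᵀ *
          ((((b : ↥(Zgrp F)) : GL I27 F)⁻¹ : GL I27 F) : Matrix I27 I27 F)) *
          ((((b : ↥(Zgrp F)) : GL I27 F)) : Matrix I27 I27 F) := by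
          rw [mul_assoc, mul_assoc, val_inv_mul, mul_one]
      _ = _ := by rw [← h8, ← mul_assoc, val_mul_inv, one_mul]

/-- **no totally singular 3-dimensional subspace is stable under `M`**, if all two-dimensional representations of `M` are
trivial on `ψ(A)` -/
theorem no_three {Γ M : Subgroup ↥(Zgrp F)} {A : Type v} [Group A] {ψ : A →* ↥(Zgrp F)}
    (h : Cfsg.Agent.R2.H9.E6.Setup Γ M ψ) (h2 : ∀ θ : ↥M →* GL (Fin 2) F, ∀ a, θ ⟨ψ a, h.mem_M a⟩ = 1)
    {ρ : Representation F ↥(Zgrp F) (I27 → F)} (hρ : ρ = V F ∨ ρ = V' F)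
    {W : Submodule F (I27 → F)} (hst : ∀ g ∈ M, ∀ w ∈ W, ρ g w ∈ W) (h3 : finrank F ↥W = 3)
    (hW : ∀ x ∈ W, Cfsg.Agent.H952.F4.sh x = 0) : False := by
  have hts : Cfsg.Agent.H163.E6.TS W := by
    refine ⟨hW, fun x hx y hy => ?_⟩
    have h := Cfsg.Agent.H952.F4.Jord.sh_add x y
    rw [hW _ (W.add_mem hx hy), hW x hx, hW y hy] at h
    simpa using h.symm
  obtain ⟨N, hN, hNc⟩ := root3' ρ hρ (B := M) (S := {m | ∃ a, m = ⟨ψ a, h.mem_M a⟩}) (by
    rintro θ _ ⟨a, rfl⟩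
    exact h2 θ a) h3 hts hst
  obtain ⟨m, h4, h5, h6, h7⟩ := hN.exists_lin (B := ψ.range) (by
    rintro _ ⟨a, rfl⟩
    exact hNc ⟨ψ a, h.mem_M a⟩ ⟨a, rfl⟩)
  exact h.false_of_root h4 h5 h6 h7

end Cfsg.Agent.R2.H8.NoFix.Three
end

-- part: R2/H8/NoFix/Exc
section
/-!
# S5749, S5750, box NOFIX: the pattern `9 [] + 9 [1]` in characteristic 2 (helper8)

* `E1`, ..., `E5` : sums of powers of two modulo `2 ^ a - 1`;
* `labels` : the labels of a multiset of pattern `9 [] + 9 [1]` invariant under the shift by `j`, `a = 9 j`;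
* `exc_false` : this pattern does not occur.
-/

set_option autoImplicit false
set_option linter.unusedSectionVars false
set_option maxHeartbeats 400000

namespace Cfsg.Agent.R2.H8.NoFix.Exc

open Cfsg Cfsg.Lie Module Matrix
open Cfsg.Agent.ChevalleyStructure
open Cfsg.Agent.ChevalleyStructure.E6Min.Basic Cfsg.Agent.ChevalleyStructure.E6Min.Adjoint
open Cfsg.Agent.H163.E6
open Cfsg.Agent.H943.SL2Rel Cfsg.Agent.H943.SL2Mod Cfsg.Agent.H943.RepAdd Cfsg.Agent.R2.H28.SL2 Cfsg.Agent.R2.SL2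
open Cfsg.Agent.R2.H9.E6 Cfsg.Agent.R2.H8.NoFix.Two Cfsg.Agent.R2.H8.NoFix.Pat Cfsg.Agent.R2.H8.NoFix.Shift
open Cfsg.Agent.R2.H8.NoFix.Num
open Cfsg.Agent.H952.F4 (ev)

universe u w

/-! ### powers of two -/

theorem pow_add_eq {i j k : ℕ} (h : 2 ^ i + 2 ^ j = 2 ^ k) : i = j := by
  have key : ∀ i j : ℕ, 2 ^ i + 2 ^ j = 2 ^ k → ¬ i < j := by
    intro i j h hij
    have h1 : 2 ^ i < 2 ^ j := Nat.pow_lt_pow_right (by norm_num) hij
    have h2 : 0 < 2 ^ i := Nat.pow_pos (by norm_num)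
    have h3 : 2 ^ j < 2 ^ k := by omega
    have h4 : 2 ^ k < 2 ^ (j + 1) := by rw [pow_succ]; omega
    have h5 := (Nat.pow_lt_pow_iff_right (by norm_num : 1 < 2)).1 h3
    have h6 := (Nat.pow_lt_pow_iff_right (by norm_num : 1 < 2)).1 h4
    omega
  have h1 := key i j h
  have h2 := key j i (by rw [add_comm]; exact h)
  omega

section bounds

variable {a : ℕ} (ha : 9 ≤ a)

include ha

theorem bd : ∃ X : ℤ, 16 ≤ X ∧ (2 : ℤ) ^ a = 32 * X ∧ (∀ i < a, (0 : ℤ) < 2 ^ i ∧ (2 : ℤ) ^ i ≤ 16 * X) ∧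
    (∀ i j, i < a → j < a → i ≠ j → (2 : ℤ) ^ i + 2 ^ j ≤ 24 * X) ∧ ∀ i, 1 ≤ i → i + 5 ≤ a → 2 ≤ (2 : ℤ) ^ i ∧ (2 : ℤ) ^ i ≤ X := by
  obtain ⟨c, rfl⟩ : ∃ c, a = c + 5 := ⟨a - 5, by omega⟩
  have hle : ∀ i j : ℕ, i ≤ j → (2 : ℤ) ^ i ≤ 2 ^ j := fun i j h => pow_le_pow_right₀ (by norm_num) h
  have h0 : ∀ i : ℕ, (0 : ℤ) < 2 ^ i := fun i => by positivity
  have h4 : (2 : ℤ) ^ (c + 4) = 16 * 2 ^ c := by rw [pow_add]; ring
  have h3 : (2 : ℤ) ^ (c + 3) = 8 * 2 ^ c := by rw [pow_add]; ring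
  refine ⟨2 ^ c, ?_, by rw [pow_add]; ring, fun i hi => ⟨h0 i, ?_⟩, fun i j hi hj hij => ?_, fun i h1 h2 => ⟨?_, ?_⟩⟩
  · have := hle 4 c (by omega)
    norm_num at this
    exact this
  · rw [← h4]
    exact hle _ _ (by omega)
  · rcases Nat.lt_or_gt_of_ne hij with h | h
    · have h5 := hle i (c + 3) (by omega)
      have h6 := hle j (c + 4) (by omega)
      rw [h3] at h5
      rw [h4] at h6
      linarith only [h5, h6]
    · have h5 := hle j (c + 3) (by omega)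
      have h6 := hle i (c + 4) (by omega)
      rw [h3] at h5
      rw [h4] at h6
      linarith only [h5, h6]
  · have := hle 1 i h1
    rwa [pow_one] at this
  · exact hle _ _ (by omega)

omit ha in
theorem eq_zero_of {N x : ℤ} (h : N ∣ x) (h1 : -N < x) (h2 : x < N) : x = 0 := by
  obtain ⟨c, rfl⟩ := h
  have hN : 0 < N := by linarith
  have h3 : -1 < c := by
    by_contra h4
    have h5 : c ≤ -1 := by omega
    nlinarith only [h1, h2, h4]
  have h4 : c < 1 := by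
    by_contra h4
    have h5 : 1 ≤ c := by omega
    nlinarith only [h1, h2, h4]
  have h5 : c = 0 := by omega
  rw [h5, mul_zero]

omit ha in
theorem eq_of {N x : ℤ} (h : N ∣ x) (h1 : 0 < x) (h2 : x < 2 * N) : x = N := by
  have h3 := eq_zero_of (N := N) (x := x - N) (dvd_sub_self_right.2 h) (by linarith) (by linarith)
  linarith

theorem E1 {i j : ℕ} (hi : i < a) (hj : j < a) (h : (2 ^ a - 1 : ℤ) ∣ 2 ^ i + 2 ^ j) : False := by
  obtain ⟨X, hX, h1, h2, h3, -⟩ := bd ha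
  have h4 := eq_of h (by have := (h2 i hi).1; have := (h2 j hj).1; linarith)
    (by have := (h2 i hi).2; have := (h2 j hj).2; linarith)
  by_cases hij : i = j
  · subst hij
    rw [h1] at h4
    omega
  · have := h3 i j hi hj hij
    linarith only [hX, h1, h4, this]

theorem E2 {i j : ℕ} (hi : i < a) (hj : j < a) (h : (2 ^ a - 1 : ℤ) ∣ 2 ^ i - 2 ^ j) : i = j := by
  obtain ⟨X, hX, h1, h2, -⟩ := bd ha
  have h4 := eq_zero_of h (by have := (h2 i hi).1; have := (h2 j hj).2; linarith)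
    (by have := (h2 i hi).2; have := (h2 j hj).1; linarith)
  have h5 : (2 : ℤ) ^ i = 2 ^ j := by linarith only [h4]
  exact Nat.pow_right_injective le_rfl (by exact_mod_cast h5)

theorem E3 {i j l : ℕ} (hi : i < a) (hj : j < a) (hl : 1 ≤ l) (hl' : l + 5 ≤ a)
    (h : (2 ^ a - 1 : ℤ) ∣ 2 ^ l + 2 ^ i + 2 ^ j) : False := by
  obtain ⟨X, hX, h1, h2, h3, h5⟩ := bd ha
  have hlX := h5 l hl hl'
  have h4 := eq_of h (by have := (h2 i hi).1; have := (h2 j hj).1; linarith)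
    (by have := (h2 i hi).2; have := (h2 j hj).2; linarith)
  by_cases hij : i = j
  · subst hij
    obtain ⟨l', rfl⟩ : ∃ l', l = l' + 1 := ⟨l - 1, by omega⟩
    rw [h1, pow_succ] at h4
    omega
  · have := h3 i j hi hj hij
    linarith only [h1, hlX, h4, this]

theorem E4 {i j l : ℕ} (hi : i < a) (hj : j < a) (hl : 1 ≤ l) (hl' : l + 5 ≤ a)
    (h : (2 ^ a - 1 : ℤ) ∣ 2 ^ l + 2 ^ i - 2 ^ j) : i = l := by
  obtain ⟨X, hX, h1, h2, h3, h5⟩ := bd ha
  have hlX := h5 l hl hl'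
  have h4 := eq_zero_of h (by have := (h2 i hi).1; have := (h2 j hj).2; linarith)
    (by have := (h2 i hi).2; have := (h2 j hj).1; linarith)
  have h6 : (2 : ℤ) ^ l + 2 ^ i = 2 ^ j := by linarith only [h4]
  exact (pow_add_eq (by exact_mod_cast h6 : 2 ^ l + 2 ^ i = 2 ^ j)).symm

theorem E5 {i j l : ℕ} (hi : i < a) (hj : j < a) (hl : 1 ≤ l) (hl' : l + 5 ≤ a)
    (h : (2 ^ a - 1 : ℤ) ∣ 2 ^ l - 2 ^ i - 2 ^ j) : i = j := by
  obtain ⟨X, hX, h1, h2, h3, h5⟩ := bd ha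
  have hlX := h5 l hl hl'
  have h4 := eq_zero_of h (by have := (h2 i hi).2; have := (h2 j hj).2; linarith)
    (by have := (h2 i hi).1; have := (h2 j hj).1; linarith)
  have h6 : (2 : ℤ) ^ i + 2 ^ j = 2 ^ l := by linarith only [h4]
  exact pow_add_eq (by exact_mod_cast h6 : 2 ^ i + 2 ^ j = 2 ^ l)

end bounds

/-! ### the labels -/

theorem cyc_pow {a i : ℕ} (ha : 1 ≤ a) (hi : i < a) : cyc 2 a (2 ^ i) = 2 ^ ((i + 1) % a) := by
  unfold cyc
  by_cases h : i + 1 = a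
  · have h1 : a - 1 = i := by omega
    rw [h1, Nat.mod_self, Nat.div_self (Nat.pow_pos (by norm_num)), h, Nat.mod_self]
    norm_num
  · have h1 : 2 ^ i < 2 ^ (a - 1) := Nat.pow_lt_pow_right (by norm_num) (by omega)
    rw [Nat.mod_eq_of_lt h1, Nat.div_eq_of_lt h1, Nat.mod_eq_of_lt (show i + 1 < a by omega), pow_succ',
      add_zero]

theorem cyc_iter_pow {a i : ℕ} (ha : 1 ≤ a) (hi : i < a) (n : ℕ) : (cyc 2 a)^[n] (2 ^ i) = 2 ^ ((i + n) % a) := by
  induction n with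
  | zero => rw [Function.iterate_zero, id, add_zero, Nat.mod_eq_of_lt hi]
  | succ n ih => rw [Function.iterate_succ_apply', ih, cyc_pow ha (Nat.mod_lt _ (by omega)), Nat.mod_add_mod, add_assoc]

theorem count_le_map {α β : Type*} [DecidableEq α] [DecidableEq β] (f : α → β) (s : Multiset α) (b : α) :
    s.count b ≤ (s.map f).count (f b) := by
  rw [Multiset.count_map, Multiset.count_eq_card_filter_eq]
  exact Multiset.card_le_card (Multiset.monotone_filter_right s fun x hx => by rw [hx])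

structure Lab (a : ℕ) (s : Multiset ℕ) (l : ℕ) : Prop where
  cases : ∀ b ∈ s, b = 0 ∨ ∃ i < a, b = 2 ^ i
  one : ∀ i < a, s.count (2 ^ i) ≤ 1
  low : 1 ≤ l
  high : l + 5 ≤ a
  mem : 2 ^ l ∈ s

theorem labels {a j : ℕ} (hj : 1 ≤ j) (ha : a = j * 9) {s : Multiset ℕ} (hs : ∀ b ∈ s, b < 2 ^ a)
    (hw : (wx : Multiset (List ℕ)) = s.map (tyl 2)) (hsh : s.map (cyc 2 a)^[j] = s) : ∃ l, Lab a s l := by
  have ha1 : 1 ≤ a := by omega
  have hlt : ∀ i, 2 ^ i < 2 ^ a → i < a := fun i h => (Nat.pow_lt_pow_iff_right (by norm_num)).1 h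
  have hcases : ∀ b ∈ s, b = 0 ∨ ∃ i < a, b = 2 ^ i := by
    intro b hb
    have h1 : tyl 2 b ∈ (wx : Multiset (List ℕ)) := by
      rw [hw]
      exact Multiset.mem_map_of_mem _ hb
    have h2 : tyl 2 b = [] ∨ tyl 2 b = [1] := by
      rw [Multiset.mem_coe] at h1
      unfold wx at h1
      simp only [List.mem_cons, List.not_mem_nil, or_false] at h1
      (clear * - h1; tauto)
    rcases h2 with h2 | h2
    · exact Or.inl (tyl_eq_nil.1 h2)
    · obtain ⟨i, hi⟩ := tyl_one h2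
      rw [one_mul] at hi
      refine Or.inr ⟨i, hlt i ?_, hi⟩
      rw [← hi]
      exact hs b hb
  have hmono1 : ∀ i < a, s.count (2 ^ i) ≤ s.count (2 ^ ((i + j) % a)) := by
    intro i hi
    have h1 := count_le_map (cyc 2 a)^[j] s (2 ^ i)
    rwa [cyc_iter_pow ha1 hi, hsh] at h1
  have hmono : ∀ i < a, ∀ m, s.count (2 ^ i) ≤ s.count (2 ^ ((i + m * j) % a)) := by
    intro i hi m
    induction m with
    | zero => rw [zero_mul, add_zero, Nat.mod_eq_of_lt hi]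
    | succ m ih =>
      refine ih.trans ((hmono1 _ (Nat.mod_lt _ (by omega))).trans ?_)
      rw [Nat.mod_add_mod]
      have : i + m * j + j = i + (m + 1) * j := by ring
      rw [this]
  have hone : ∀ i < a, s.count (2 ^ i) ≤ 1 := by
    intro i hi
    have hinj : ∀ m m' : ℕ, m < 9 → m' < 9 → (i + m * j) % a = (i + m' * j) % a → m = m' := by
      have key : ∀ m m' : ℕ, m < m' → m' < 9 → (i + m * j) % a ≠ (i + m' * j) % a := by
        intro m m' h1 h2 he
        have h3 : a ∣ (i + m' * j) - (i + m * j) := (Nat.modEq_iff_dvd' (by nlinarith only [h1])).1 he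
        have h4 : (i + m' * j) - (i + m * j) = (m' - m) * j := by
          rw [Nat.sub_mul]
          omega
        rw [h4, ha, mul_comm j 9] at h3
        have h5 := Nat.dvd_of_mul_dvd_mul_right (by omega) h3
        have h6 := Nat.le_of_dvd (by omega) h5
        omega
      intro m m' h1 h2 he
      rcases lt_trichotomy m m' with h | h | h
      · exact absurd he (key m m' h h2)
      · exact h
      · exact absurd he.symm (key m' m h h1)
    have hnd : ((Multiset.range 9).map fun m => 2 ^ ((i + m * j) % a)).Nodup := by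
      refine Multiset.Nodup.map_on ?_ (Multiset.nodup_range 9)
      intro x hx y hy hxy
      rw [Multiset.mem_range] at hx hy
      exact hinj x y hx hy (Nat.pow_right_injective le_rfl hxy)
    have hle : s.count (2 ^ i) • ((Multiset.range 9).map fun m => 2 ^ ((i + m * j) % a)) ≤ s.filter fun b => b ≠ 0 := by
      rw [Multiset.le_iff_count]
      intro b
      rw [Multiset.count_nsmul]
      by_cases hb : b ∈ (Multiset.range 9).map fun m => 2 ^ ((i + m * j) % a)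
      · rw [Multiset.count_eq_one_of_mem hnd hb, mul_one]
        obtain ⟨m, -, rfl⟩ := Multiset.mem_map.1 hb
        rw [Multiset.count_filter_of_pos (by positivity)]
        exact hmono i hi m
      · rw [Multiset.count_eq_zero_of_notMem hb, mul_zero]
        exact Nat.zero_le _
    have h1 := Multiset.card_le_card hle
    have h2 : (s.filter fun b => b ≠ 0).card = 9 := by
      have h3 : ((wx : Multiset (List ℕ)).filter fun t => t ≠ []).card = 9 := by decide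
      rw [hw, Multiset.filter_map, Multiset.card_map] at h3
      rw [← h3]
      congr 1
      refine Multiset.filter_congr fun b _ => ?_
      rw [Function.comp_apply, ne_eq, ne_eq, tyl_eq_nil]
    rw [Multiset.card_nsmul, Multiset.card_map, Multiset.card_range, h2] at h1
    omega
  obtain ⟨i0, hi0, hi0s⟩ : ∃ i0 < a, 2 ^ i0 ∈ s := by
    have h1 : [1] ∈ (wx : Multiset (List ℕ)) := by
      rw [Multiset.mem_coe]
      decide
    rw [hw] at h1
    obtain ⟨b, hb, hb1⟩ := Multiset.mem_map.1 h1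
    rcases hcases b hb with rfl | ⟨i, hi, rfl⟩
    · rw [tyl_eq_nil.2 rfl] at hb1
      exact absurd hb1 (by decide)
    · exact ⟨i, hi, hb⟩
  have hd : i0 / j < 9 := by
    rw [Nat.div_lt_iff_lt_mul (by omega)]
    omega
  have hm : i0 % j < j := Nat.mod_lt _ (by omega)
  have hdm := Nat.div_add_mod i0 j
  refine ⟨4 * j + i0 % j, hcases, hone, by omega, by omega, ?_⟩
  have h1 := hmono i0 hi0 (13 - i0 / j)
  have h2 : i0 + (13 - i0 / j) * j = 4 * j + i0 % j + a := by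
    obtain ⟨c, hc⟩ : ∃ c, i0 / j + c = 13 := ⟨13 - i0 / j, by omega⟩
    have h3 : 13 - i0 / j = c := by omega
    rw [h3, ha]
    have h4 : j * (i0 / j) + c * j = 13 * j := by
      rw [← hc]
      ring
    linarith only [hdm, h4]
  rw [h2, Nat.add_mod_right, Nat.mod_eq_of_lt (by omega)] at h1
  have h3 : 1 ≤ s.count (2 ^ i0) := Multiset.one_le_count_iff_mem.2 hi0s
  exact Multiset.one_le_count_iff_mem.1 (h3.trans h1)

/-! ### the incidence relations of the weights -/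

open Cfsg.Agent.ChevalleyStructure.E6Min.Forms (rel th)

set_option maxRecDepth 100000 in
theorem th_facts : ∀ l a : I27, rel l a = 2 → th l (th l a) = a ∧ th l a ≠ a ∧ th l a ≠ l ∧ a ≠ l := by
  decide +kernel

set_option maxRecDepth 100000 in
theorem card_rel : ∀ l : I27, 3 ≤ (Finset.univ.filter fun a => rel l a = 2).card := by decide +kernel

/-! ### the multiplicities of the eigenvalues -/

section mult

variable {k : Type u} [Field k] [DecidableEq k] [CharP k 2]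

theorem Bf_two_pow (i : ℕ) {m : ℕ} (h : m ∈ Bf k (2 ^ i)) : m = 0 ∨ m = 2 ^ i := by
  rw [mem_Bf] at h
  by_contra hm
  push Not at hm
  apply h.2
  rw [CharP.cast_eq_zero_iff k 2]
  exact Nat.Prime.dvd_choose_pow Nat.prime_two hm.1 hm.2

theorem coe_zpow' (z : kˣ) (m n : ℕ) : (z : k) ^ m * ((z : k))⁻¹ ^ n = ((z ^ ((m : ℤ) - (n : ℤ)) : kˣ) : k) := by
  rw [Units.val_zpow_eq_zpow_val, ← pow_mul_inv _ z.ne_zero]

theorem mf_cases (z : kˣ) (i : ℕ) {ν : kˣ} (h : mf (2 ^ i) (z : k) (ν : k) ≠ 0) :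
    ν = z ^ (2 ^ i : ℤ) ∨ ν = z ^ (-2 ^ i : ℤ) := by
  unfold mf at h
  rw [Finset.card_ne_zero] at h
  obtain ⟨m, hm⟩ := h
  rw [Finset.mem_filter, coe_zpow'] at hm
  have h1 := Units.ext hm.2
  rcases Bf_two_pow i hm.1 with h2 | h2
  · right
    rw [← h1, h2]
    congr 1
    push_cast
    rw [Nat.sub_zero]
    push_cast
    ring
  · left
    rw [← h1, h2]
    congr 1
    rw [Nat.sub_self]
    push_cast
    ring

theorem mf_zero (z : kˣ) {ν : kˣ} (h : mf 0 (z : k) (ν : k) ≠ 0) : ν = 1 := by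
  unfold mf at h
  rw [Finset.card_ne_zero] at h
  obtain ⟨m, hm⟩ := h
  rw [Finset.mem_filter, Bf_eq (k := k) (p := 2), Bp_zero, Finset.mem_singleton] at hm
  have h1 := hm.2
  rw [hm.1, Nat.sub_zero, pow_zero, pow_zero, mul_one] at h1
  exact Units.ext h1.symm

theorem mf_le_one {a : ℕ} (ha : 9 ≤ a) {z : kˣ} (hz : IsPrimitiveRoot z (2 ^ a - 1)) {i : ℕ} (hi : i < a) (ν : kˣ) :
    mf (2 ^ i) (z : k) (ν : k) ≤ 1 := by
  unfold mf
  rw [Finset.card_le_one]
  intro m hm m' hm'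
  rw [Finset.mem_filter, coe_zpow'] at hm hm'
  have h1 := Units.ext (hm.2.trans hm'.2.symm)
  have hcast : ((2 ^ a - 1 : ℕ) : ℤ) = 2 ^ a - 1 := by
    rw [Nat.cast_sub Nat.one_le_two_pow]
    push_cast
    rfl
  have key : z ^ (2 ^ i : ℤ) ≠ z ^ (-2 ^ i : ℤ) := by
    intro h2
    have h3 : z ^ ((2 : ℤ) ^ i + 2 ^ i) = 1 := by
      rw [_root_.zpow_add]
      nth_rewrite 2 [h2]
      rw [← _root_.zpow_add, add_neg_cancel, zpow_zero]
    rw [hz.zpow_eq_one_iff_dvd, hcast] at h3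
    exact E1 ha hi hi h3
  have e0 : ((0 : ℕ) : ℤ) - ((2 ^ i - 0 : ℕ) : ℤ) = -2 ^ i := by
    rw [Nat.sub_zero]
    push_cast
    ring
  have e1 : ((2 ^ i : ℕ) : ℤ) - ((2 ^ i - 2 ^ i : ℕ) : ℤ) = 2 ^ i := by
    rw [Nat.sub_self]
    push_cast
    ring
  rcases Bf_two_pow i hm.1 with h2 | h2 <;> rcases Bf_two_pow i hm'.1 with h3 | h3
  · rw [h2, h3]
  · rw [h2, h3, e0, e1] at h1
    exact absurd h1.symm key
  · rw [h2, h3, e0, e1] at h1
    exact absurd h1 key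
  · rw [h2, h3]

theorem mf_pos (z : kˣ) (i : ℕ) : mf (2 ^ i) (z : k) ((z ^ (2 ^ i : ℤ) : kˣ) : k) ≠ 0 := by
  unfold mf
  rw [Finset.card_ne_zero]
  refine ⟨2 ^ i, ?_⟩
  rw [Finset.mem_filter, coe_zpow', mem_Bf]
  refine ⟨⟨le_rfl, by rw [Nat.choose_self, Nat.cast_one]; exact one_ne_zero⟩, ?_⟩
  congr 2
  rw [Nat.sub_self]
  push_cast
  ring

/-- multiplicities at most 1 -/
theorem sum_le_one {a : ℕ} (ha : 9 ≤ a) {z : kˣ} (hz : IsPrimitiveRoot z (2 ^ a - 1)) {s : Multiset ℕ} {l : ℕ}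
    (hl : Lab a s l) {ν : kˣ} (hν : ν ≠ 1) :
    ∑ b ∈ Finset.range (2 ^ a), s.count b * mf b (z : k) (ν : k) ≤ 1 := by
  have hcast : ((2 ^ a - 1 : ℕ) : ℤ) = 2 ^ a - 1 := by
    rw [Nat.cast_sub Nat.one_le_two_pow]
    push_cast
    rfl
  have hval : ∀ b, s.count b * mf b (z : k) (ν : k) ≠ 0 → ∃ i < a, b = 2 ^ i ∧ (ν = z ^ (2 ^ i : ℤ) ∨ ν = z ^ (-2 ^ i : ℤ)) := by
    intro b hb
    rw [mul_ne_zero_iff, Multiset.count_ne_zero] at hb
    rcases hl.cases b hb.1 with rfl | ⟨i, hi, rfl⟩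
    · exact absurd (mf_zero z hb.2) hν
    · exact ⟨i, hi, rfl, mf_cases z i hb.2⟩
  by_cases hex : ∃ b, s.count b * mf b (z : k) (ν : k) ≠ 0
  · obtain ⟨b, hb⟩ := hex
    obtain ⟨i, hi, rfl, h1⟩ := hval b hb
    have hother : ∀ c, c ≠ 2 ^ i → s.count c * mf c (z : k) (ν : k) = 0 := by
      intro c hc
      by_contra hc0
      obtain ⟨i', hi', rfl, h2⟩ := hval c hc0
      apply hc
      congr 1
      rcases h1 with h1 | h1 <;> rcases h2 with h2 | h2
      · have h3 : z ^ ((2 : ℤ) ^ i' - 2 ^ i) = 1 := by rw [_root_.zpow_sub, ← h1, ← h2, mul_inv_cancel]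
        rw [hz.zpow_eq_one_iff_dvd, hcast] at h3
        exact E2 ha hi' hi h3
      · exfalso
        have h3 : z ^ ((2 : ℤ) ^ i + 2 ^ i') = 1 := by
          have h4 : z ^ ((2 : ℤ) ^ i - (-2 ^ i')) = 1 := by rw [_root_.zpow_sub, ← h1, ← h2, mul_inv_cancel]
          rwa [sub_neg_eq_add] at h4
        rw [hz.zpow_eq_one_iff_dvd, hcast] at h3
        exact E1 ha hi hi' h3
      · exfalso
        have h3 : z ^ ((2 : ℤ) ^ i' + 2 ^ i) = 1 := by
          have h4 : z ^ ((2 : ℤ) ^ i' - (-2 ^ i)) = 1 := by rw [_root_.zpow_sub, ← h1, ← h2, mul_inv_cancel]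
          rwa [sub_neg_eq_add] at h4
        rw [hz.zpow_eq_one_iff_dvd, hcast] at h3
        exact E1 ha hi' hi h3
      · have h3 : z ^ ((2 : ℤ) ^ i - 2 ^ i') = 1 := by
          have h4 : z ^ ((-2 : ℤ) ^ 1 * 0 + (-2 ^ i' - (-2 ^ i))) = 1 := by
            rw [mul_zero, zero_add, _root_.zpow_sub, ← h1, ← h2, mul_inv_cancel]
          have h5 : ((-2 : ℤ) ^ 1 * 0 + (-2 ^ i' - (-2 ^ i))) = 2 ^ i - 2 ^ i' := by ring
          rwa [h5] at h4
        rw [hz.zpow_eq_one_iff_dvd, hcast] at h3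
        exact (E2 ha hi hi' h3).symm
    have h2 : ∑ b ∈ Finset.range (2 ^ a), s.count b * mf b (z : k) (ν : k) ≤ s.count (2 ^ i) * mf (2 ^ i) (z : k) (ν : k) := by
      by_cases hm : 2 ^ i ∈ Finset.range (2 ^ a)
      · rw [Finset.sum_eq_single_of_mem _ hm fun c _ hc => hother c hc]
      · rw [Finset.sum_eq_zero]
        · exact Nat.zero_le _
        · intro c hc
          exact hother c fun h => hm (h ▸ hc)
    refine h2.trans ?_
    calc s.count (2 ^ i) * mf (2 ^ i) (z : k) (ν : k) ≤ 1 * 1 := Nat.mul_le_mul (hl.one i hi) (mf_le_one ha hz hi ν)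
      _ = 1 := one_mul 1
  · push Not at hex
    rw [Finset.sum_eq_zero fun b _ => hex b]
    exact Nat.zero_le _

end mult

/-! ### the contradiction -/

variable {F : Type u} [Field F] [Fintype F] {K : Type w} [Field K] [Fintype K] [DecidableEq K]
  [DecidableEq (AlgebraicClosure F)]

/-- **the pattern `9 [] + 9 [1]`** -/
theorem exc_false {a j : ℕ} [Fact (Nat.Prime 2)] [CharP F 2] [CharP K 2] [CharP (AlgebraicClosure F) 2]
    (hK : Fintype.card K = 2 ^ a) (hj : 1 ≤ j) (ha : a = j * 9)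
    (κ : K →+* AlgebraicClosure F)
    {φ : ProjectiveSpecialLinearGroup (Fin 2) K →* ↥(Zgrp (AlgebraicClosure F))}
    (hw : (wx : Multiset (List ℕ)) =
      (cf (Sy.{u, u, w} κ 2) (Rr (V (AlgebraicClosure F)) (φ.comp pq))).map (tyl 2))
    (hsh : (cf (Sy.{u, u, w} κ 2) (Rr (V (AlgebraicClosure F)) (φ.comp pq))).map (cyc 2 a)^[j] =
      cf (Sy.{u, u, w} κ 2) (Rr (V (AlgebraicClosure F)) (φ.comp pq))) : False := by
  classical
  set k := AlgebraicClosure F with hk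
  set ρ := Rr (V k) (φ.comp pq) with hρ
  set s := cf (Sy.{u, u, w} κ 2) ρ with hs
  have H := isMult_cf κ 2 hK ρ
  have ha9 : 9 ≤ a := by omega
  obtain ⟨l, hl⟩ := labels hj ha (cf_lt.{u, u, w} κ 2 hK ρ) hw hsh
  have hla : l < a := by have := hl.high; omega
  -- the element of the torus
  obtain ⟨lam, hlam⟩ := IsCyclic.exists_generator (α := Kˣ)
  have h0 : (κ lam : k) ≠ 0 := fun h => lam.ne_zero (κ.injective (by rw [h, map_zero]))
  let z : kˣ := Units.mk0 (κ lam) h0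
  have hzv : (z : k) = κ lam := rfl
  have hprim : IsPrimitiveRoot (κ lam : k) (2 ^ a - 1) := by
    rw [← hK]
    exact primitive κ κ.injective hlam
  have hz : IsPrimitiveRoot z (2 ^ a - 1) := by
    rw [← IsPrimitiveRoot.coe_units_iff]
    exact hprim
  have h2a : 2 ≤ 2 ^ a := two_le_q 2 hK
  have hN0 : 2 ^ a - 1 ≠ 0 := by omega
  have hNk : ((2 ^ a - 1 : ℕ) : k) ≠ 0 := by
    rw [Nat.cast_sub (by omega), q_cast (k := k) 2 hK, Nat.cast_one, zero_sub]
    exact neg_ne_zero.2 one_ne_zero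
  have hcop : (2 ^ a - 1).Coprime 2 := by
    rw [Nat.coprime_comm, Nat.prime_two.coprime_iff_not_dvd]
    intro h
    obtain ⟨a', rfl⟩ : ∃ a', a = a' + 1 := ⟨a - 1, by omega⟩
    rw [pow_succ] at h h2a
    omega
  have hx : (φ (pq (Cfsg.Agent.H943.SL2Rel.h lam))) ^ (2 ^ a - 1) = 1 := by
    rw [← map_pow, ← map_pow]
    have h1 : (Cfsg.Agent.H943.SL2Rel.h lam) ^ (2 ^ a - 1) = 1 :=
      pow_eq_one_of_isSS κ (Cfsg.Agent.H179.SLC.isSS_h κ lam) hprim.pow_eq_one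
    rw [h1, map_one, map_one]
  obtain ⟨g, d, hd, -, hdN, htri⟩ := Cfsg.Agent.H944.E6T.exists_diag 2
    (Cfsg.Agent.H944.RootVals.hAlg_closure 2 F) hN0 hcop hx
  have hcard : ∀ ν : kˣ, ν ^ (2 ^ a - 1) = 1 → (Finset.univ.filter fun i => d i = ν).card =
      ∑ b ∈ Finset.range (2 ^ a), s.count b * mf b (z : k) (ν : k) := by
    intro ν hν
    refine Eq.trans ?_ (H.eigen _ (κ lam) _ (Cfsg.Agent.H179.SLC.isSS_h κ lam) hprim.pow_eq_one hNk (ν : k)
      (by rw [← Units.val_pow_eq_pow_val, hν, Units.val_one]))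
    rw [eig_eq]
    have h1 : ev (ρ (Cfsg.Agent.H943.SL2Rel.h lam)) (ν : k) =
        ev (V k (g * φ (pq (Cfsg.Agent.H943.SL2Rel.h lam)) * g⁻¹)) (ν : k) :=
      (Cfsg.Agent.H944.E6T.ev_conj (V k) g _ _).symm
    rw [h1, Cfsg.Agent.H944.E6T.ev_diag (fun i => (d i : k)) (ν : k) (T := V k _) (by
      rw [← hd]
      rfl)]
    congr 1
    refine Finset.filter_congr fun i _ => ?_
    rw [Units.ext_iff]
  -- the values
  have hval : ∀ i, d i = 1 ∨ ∃ e < a, d i = z ^ (2 ^ e : ℤ) ∨ d i = z ^ (-2 ^ e : ℤ) := by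
    intro i
    have h1 := hcard (d i) (hdN i)
    have h2 : (Finset.univ.filter fun i' => d i' = d i).card ≠ 0 := by
      rw [Finset.card_ne_zero]
      exact ⟨i, Finset.mem_filter.2 ⟨Finset.mem_univ _, rfl⟩⟩
    rw [h1] at h2
    obtain ⟨b, -, hb⟩ := Finset.exists_ne_zero_of_sum_ne_zero h2
    rw [mul_ne_zero_iff, Multiset.count_ne_zero] at hb
    rcases hl.cases b hb.1 with rfl | ⟨e, he, rfl⟩
    · exact Or.inl (mf_zero z hb.2)
    · exact Or.inr ⟨e, he, mf_cases z e hb.2⟩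
  have huniq : ∀ i i', d i = d i' → d i ≠ 1 → i = i' := by
    intro i i' h1 h2
    have h3 := sum_le_one ha9 hz hl h2
    rw [← hcard _ (hdN i), Finset.card_le_one] at h3
    exact h3 i (Finset.mem_filter.2 ⟨Finset.mem_univ _, rfl⟩) i' (Finset.mem_filter.2 ⟨Finset.mem_univ _, h1.symm⟩)
  -- the weight
  have hzN : z ^ (2 ^ a - 1) = 1 := hz.pow_eq_one
  obtain ⟨i0, hi0⟩ : ∃ i, d i = z ^ (2 ^ l : ℤ) := by
    have h1 := hcard (z ^ (2 ^ l : ℤ)) (by rw [← zpow_natCast, ← _root_.zpow_mul, mul_comm, _root_.zpow_mul, zpow_natCast, hzN, _root_.one_zpow])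
    have h2 : (Finset.univ.filter fun i => d i = z ^ (2 ^ l : ℤ)).card ≠ 0 := by
      rw [h1]
      have h3 : s.count (2 ^ l) * mf (2 ^ l) (z : k) ((z ^ (2 ^ l : ℤ) : kˣ) : k) ≠ 0 :=
        mul_ne_zero (Multiset.count_ne_zero.2 hl.mem) (mf_pos z l)
      have h4 := Finset.single_le_sum (s := Finset.range (2 ^ a))
        (f := fun b => s.count b * mf b (z : k) ((z ^ (2 ^ l : ℤ) : kˣ) : k)) (fun _ _ => Nat.zero_le _)
        (Finset.mem_range.2 (Nat.pow_lt_pow_right (by norm_num) hla))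
      exact fun h5 => h3 (Nat.le_zero.1 (h5 ▸ h4))
    rw [Finset.card_ne_zero] at h2
    obtain ⟨i, hi⟩ := h2
    exact ⟨i, (Finset.mem_filter.1 hi).2⟩
  have hcast : ((2 ^ a - 1 : ℕ) : ℤ) = 2 ^ a - 1 := by
    rw [Nat.cast_sub Nat.one_le_two_pow]
    push_cast
    rfl
  have hdvd : ∀ e : ℤ, z ^ e = 1 → (2 ^ a - 1 : ℤ) ∣ e := by
    intro e he
    rw [hz.zpow_eq_one_iff_dvd, hcast] at he
    exact he
  have hi01 : d i0 ≠ 1 := by
    rw [hi0]
    intro h
    have h1 := hdvd _ h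
    exact E1 ha9 hla hla (dvd_add h1 h1)
  -- the ten neighbours
  have key : ∀ i, rel i0 i = 2 → d i = z ^ (-2 ^ l : ℤ) ∨ d (th i0 i) = z ^ (-2 ^ l : ℤ) := by
    intro i hi
    have h1 := htri i0 i hi
    obtain ⟨f1, f2, f3, f4⟩ := th_facts i0 i hi
    have hinv : ∀ x y : kˣ, x * 1 * y = 1 → x = z ^ (2 ^ l : ℤ) → y = z ^ (-2 ^ l : ℤ) := by
      intro x y hxy hx'
      rw [mul_one] at hxy
      rw [_root_.zpow_neg, ← hx']
      exact eq_inv_of_mul_eq_one_right hxy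
    rcases hval i with h2 | ⟨e, he, h2⟩
    · right
      rw [h2] at h1
      exact hinv _ _ h1 hi0
    · rcases hval (th i0 i) with h3 | ⟨e', he', h3⟩
      · left
        rw [h3, mul_one] at h1
        exact hinv (d i0) (d i) (by rw [mul_one]; exact h1) hi0
      · exfalso
        rw [hi0] at h1
        have hne : ∀ e < a, z ^ (2 ^ e : ℤ) ≠ 1 := by
          intro e he h
          have h1 := hdvd _ h
          exact E1 ha9 he he (dvd_add h1 h1)
        rcases h2 with h2 | h2 <;> rcases h3 with h3 | h3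
        · rw [h2, h3, ← _root_.zpow_add, ← _root_.zpow_add] at h1
          exact E3 ha9 he he' hl.low hl.high (hdvd _ h1)
        · rw [h2, h3, ← _root_.zpow_add, ← _root_.zpow_add] at h1
          have h4 := E4 ha9 he he' hl.low hl.high (by
            have h5 := hdvd _ h1
            rwa [← sub_eq_add_neg] at h5)
          subst h4
          exact f4 (huniq i i0 (h2.trans hi0.symm) (by rw [h2]; exact hne _ he))
        · rw [h2, h3, ← _root_.zpow_add, ← _root_.zpow_add] at h1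
          have h4 := E4 ha9 he' he hl.low hl.high (by
            have h5 := hdvd _ h1
            have h6 : (2 : ℤ) ^ l + -2 ^ e + 2 ^ e' = 2 ^ l + 2 ^ e' - 2 ^ e := by ring
            rwa [h6] at h5)
          subst h4
          exact f3 (huniq (th i0 i) i0 (h3.trans hi0.symm) (by rw [h3]; exact hne _ he'))
        · rw [h2, h3, ← _root_.zpow_add, ← _root_.zpow_add] at h1
          have h4 := E5 ha9 he he' hl.low hl.high (by
            have h5 := hdvd _ h1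
            have h6 : (2 : ℤ) ^ l + -2 ^ e + -2 ^ e' = 2 ^ l - 2 ^ e - 2 ^ e' := by ring
            rwa [h6] at h5)
          subst h4
          refine f2 (huniq (th i0 i) i (h3.trans h2.symm) ?_)
          rw [h3, _root_.zpow_neg, ne_eq, inv_eq_one]
          exact hne _ he
  -- at most two
  have hle : (Finset.univ.filter fun i => rel i0 i = 2).card ≤ 2 := by
    by_cases hex : ∃ m, d m = z ^ (-2 ^ l : ℤ)
    · obtain ⟨m, hm⟩ := hex
      have hm1 : d m ≠ 1 := by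
        rw [hm, _root_.zpow_neg, ne_eq, inv_eq_one, ← hi0]
        exact hi01
      refine (Finset.card_le_card (t := {m, th i0 m}) fun i hi => ?_).trans Finset.card_le_two
      rw [Finset.mem_filter] at hi
      rw [Finset.mem_insert, Finset.mem_singleton]
      rcases key i hi.2 with h | h
      · left
        exact huniq i m (h.trans hm.symm) (by rw [h, ← hm]; exact hm1)
      · right
        have h1 := huniq (th i0 i) m (h.trans hm.symm) (by rw [h, ← hm]; exact hm1)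
        rw [← h1, (th_facts i0 i hi.2).1]
    · rw [Finset.filter_false_of_mem]
      · simp
      · intro i _ hi
        rcases key i hi with h | h
        · exact hex ⟨_, h⟩
        · exact hex ⟨_, h⟩
  have h3 := card_rel i0
  omega

end Cfsg.Agent.R2.H8.NoFix.Exc
end

-- part: R2/H8/NoFix/Main
section
/-!
# S5749, S5750, box NOFIX: no fixed vectors (helper8)

`no_fix` : in the configuration `Cfg`, `A = PSL₂(p^a)` has no non-zero fixed vectors on the two 27-dimensional modules.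
-/

set_option autoImplicit false
set_option linter.unusedSectionVars false
set_option maxHeartbeats 400000

namespace Cfsg.Agent.R2.H8.NoFix.Main

open Cfsg Cfsg.Lie Module Matrix
open Cfsg.Agent.ChevalleyStructure
open Cfsg.Agent.ChevalleyStructure.E6Min.Basic Cfsg.Agent.ChevalleyStructure.E6Min.Adjoint
open Cfsg.Agent.H163.E6 Cfsg.Agent.H163.E6.Tw Cfsg.Agent.H944.E6Tw
open Cfsg.Agent.H952.F4 (sh cr tf)
open Cfsg.Agent.H952.F4.Jord
open Cfsg.Agent.H65.E6Emb (emb emb_injective ext mem_ext_of_mem)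
open Cfsg.Agent.R2.SL2 Cfsg.Agent.R2.H28.SL2
open Cfsg.Agent.H199.PslAut
open Cfsg.Agent.ClassicalGeometry.AutPSL.Auto (cj fld)
open Cfsg.Agent.R2.H9.E6 Cfsg.Agent.R2.H8.NoFix.Aut Cfsg.Agent.R2.H8.NoFix.MS Cfsg.Agent.R2.H8.NoFix.Desc
open Cfsg.Agent.R2.H8.NoFix.Sel Cfsg.Agent.R2.H8.NoFix.Two Cfsg.Agent.R2.H8.NoFix.Pat Cfsg.Agent.R2.H8.NoFix.Num
open Cfsg.Agent.R2.H8.NoFix.Rep Cfsg.Agent.R2.H8.NoFix.Shift
open Cfsg.Agent.R2.GEO (Pair)

universe u v w

/-! ### the order of the group of field automorphisms -/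

variable {F : Type u} [Field F] [Fintype F] {K : Type v} [Field K] [Fintype K]
  {M : Subgroup ↥(Zgrp F)} {ψ : ProjectiveSpecialLinearGroup (Fin 2) K →* ↥(Zgrp F)}
  {ι : ↥M →* MulAut (ProjectiveSpecialLinearGroup (Fin 2) K)}

/-- the operator of an element as a linear automorphism -/
noncomputable def Te {k : Type w} [Field k] (f : F →+* k) (R : Representation k ↥(Zgrp k) (I27 → k)) (g : ↥(Zgrp F)) :
    (I27 → k) ≃ₗ[k] (I27 → k) :=
  LinearEquiv.ofLinearMap (T f R g) (T f R g⁻¹)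
    (by
      refine LinearMap.ext fun v => ?_
      have h1 := T_inv (f := f) (R := R) g⁻¹ v
      rw [inv_inv] at h1
      exact h1)
    (by
      refine LinearMap.ext fun v => ?_
      exact T_inv (f := f) (R := R) g v)

theorem Te_apply {k : Type w} [Field k] (f : F →+* k) (R : Representation k ↥(Zgrp k) (I27 → k)) (g : ↥(Zgrp F))
    (x : I27 → k) : Te f R g x = T f R g x := rfl

theorem coe_count' (w : List (List ℕ)) (t : List ℕ) : Multiset.count t (w : Multiset (List ℕ)) = w.count t := by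
  rw [Multiset.coe_count]
  congr 1
  exact lawful_beq_subsingleton _ _

/-- the divisibility of the multiplicities in the composition pattern, and the number of trivial factors -/
theorem pat_facts {p a j n : ℕ} [Fact p.Prime] [CharP F p] [CharP K p] (hK : Fintype.card K = p ^ a)
    (hA : Ac M ψ ι) (hinj : Function.Injective ψ) (hj1 : 1 ≤ j) (hn : a = j * n) (hm0 : ∃ m, ∀ x, fa K (ι m) x = x ^ p ^ j)
    {R : Representation (AlgebraicClosure F) ↥(Zgrp (AlgebraicClosure F)) (I27 → AlgebraicClosure F)}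
    (hR : R = V (AlgebraicClosure F) ∨ R = V' (AlgebraicClosure F)) {D : ℕ} (hD1 : 1 ≤ D)
    (hD : D ≤ finrank (AlgebraicClosure F) (Fx (algebraMap F (AlgebraicClosure F)) ψ R)) {N : ℕ}
    (hN : (p = 2 ∧ N = n) ∨ (p ≠ 2 ∧ N = Nat.lcm 2 n)) :
    N ∣ 8 ∨ N ∣ 6 ∨ (N ∣ 12 ∧ D ≤ 3) ∨ (N ∣ 9 ∧ D ≤ 3) := by
  classical
  set k := AlgebraicClosure F with hk
  set f : F →+* k := algebraMap F k with hf
  have hck : CharP k p := charP_of_injective_ringHom f.injective p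
  obtain ⟨κ⟩ : Nonempty (K →+* k) := by
    let _ : Algebra (ZMod p) K := ZMod.algebra K p
    let _ : Algebra (ZMod p) k := ZMod.algebra k p
    have : Algebra.IsAlgebraic (ZMod p) K := inferInstance
    exact ⟨(IsAlgClosed.lift (R := ZMod p) (S := K) (M := k)).toRingHom⟩
  let φ : ProjectiveSpecialLinearGroup (Fin 2) K →* ↥(Zgrp k) := (emb f).comp ψ
  have hφ : Function.Injective φ := (emb_injective f).comp hinj
  obtain ⟨w, hw, hwe⟩ := exists_pat.{u, v} hK κ hφ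
  set s := cf (Sy.{u, u, v} κ p) (Rr (V k) (φ.comp pq)) with hs
  -- the shift
  obtain ⟨m0, hm0⟩ := hm0
  obtain ⟨C, hC⟩ := fa_spec (ι m0)
  have hT : ∀ g v, Te f (V k) m0 (Rr (V k) (φ.comp pq) g v) =
      Rr (V k) (φ.comp pq) (cj C (fld (fa K (ι m0)) g)) (Te f (V k) m0 v) := by
    intro g v
    rw [Te_apply, Te_apply]
    show T f (V k) m0 (T f (V k) (ψ (pq g)) v) = T f (V k) (ψ (pq (cj C (fld (fa K (ι m0)) g)))) (T f (V k) m0 v)
    rw [← T_mul, ← T_mul, ← pq_cj hC, hA.conj, inv_mul_cancel_right]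
  have hdvd : ∀ t : List ℕ, n ∣ t.length * w.count t := by
    intro t
    have h1 := dvd_count.{u, u, v} κ p hK _ hm0 (Te f (V k) m0) hT hn t
    rw [← hs, ← hwe, coe_count'] at h1
    exact h1
  have hsh : s.map (cyc p a)^[j] = s := cf_shift.{u, u, v} κ p hK _ hm0 (Te f (V k) m0) hT
  -- the fixed vectors
  have hcount : w.count [] = s.count 0 := by
    rw [← coe_count', hwe, Multiset.count_map, Multiset.count_eq_card_filter_eq]
    congr 1
    refine Multiset.filter_congr fun b _ => ?_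
    rw [eq_comm, tyl_eq_nil, eq_comm]
  have hfix : D ≤ w.count [] := by
    rw [hcount]
    refine hD.trans ?_
    have h1 := le_count_zero.{u, u, v} κ p hK (Rr R (φ.comp pq)) (X := Fx f ψ R) (fun g x hx => mem_Fx.1 hx (pq g))
    rwa [cf_dual_eq κ (φ.comp pq) hR] at h1
  have h0 : w.count [] ≠ 0 := by omega
  rcases hw with ⟨hp, hw⟩ | ⟨hp, hw⟩
  · rcases hN with ⟨h1, -⟩ | ⟨-, hN⟩
    · exact absurd h1 hp
    · rcases pat_odd hw h0 hdvd with h1 | h1 | h1
      · exact Or.inl (hN ▸ Nat.lcm_dvd (by norm_num) h1)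
      · exact Or.inr (Or.inl (hN ▸ Nat.lcm_dvd (by norm_num) h1))
      · exact Or.inr (Or.inr (Or.inl ⟨hN ▸ Nat.lcm_dvd (by norm_num) h1.1, by omega⟩))
  · rcases hN with ⟨-, hN⟩ | ⟨h1, -⟩
    · subst hN
      by_cases hx : w = wx
      · have hG : N ∣ 9 := dvd_G (by rw [hx] at hdvd; exact hdvd)
        have hN9 : N ≤ 9 := Nat.le_of_dvd (by norm_num) hG
        have hcases : N = 1 ∨ N = 3 ∨ N = 9 := by
          interval_cases N <;> omega
        rcases hcases with h1 | h1 | h1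
        · exact Or.inl (by rw [h1]; norm_num)
        · exact Or.inr (Or.inl (by rw [h1]; norm_num))
        · exfalso
          subst hp
          rw [hx] at hwe
          rw [h1] at hn
          exact Exc.exc_false hK hj1 hn κ (φ := φ) hwe hsh
      · rcases pat_two hw h0 hx hdvd with h1 | h1 | h1 | h1
        · exact Or.inl h1
        · exact Or.inr (Or.inl h1)
        · exact Or.inr (Or.inr (Or.inl ⟨h1.1, by omega⟩))
        · exact Or.inr (Or.inr (Or.inr ⟨h1.1, by omega⟩))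
    · exact absurd hp h1

/-! ### the order of the character -/

/-- the `N`-th powers -/
theorem pow_facts {k : Type w} [Field k] {f : F →+* k} {p a j n : ℕ} (hK : Fintype.card K = p ^ a)
    (hA : Ac M ψ ι) (hn : a = j * n) (hq : ∀ m, ∃ q, ∀ x, fa K (ι m) x = x ^ p ^ (j * q)) {N : ℕ} (hnN : n ∣ N)
    (hN' : Even N ∨ CharP K 2) {ρ : Representation F ↥(Zgrp F) (I27 → F)}
    {R : Representation k ↥(Zgrp k) (I27 → k)} (hB : BC ρ R) {χ : ↥M → k} {w : I27 → k} (e : IsE f ψ M R χ w) (m : ↥M) :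
    ∃ c : F, c ^ 3 = 1 ∧ χ m ^ N = f c := by
  obtain ⟨q, hq⟩ := hq m
  obtain ⟨z, x, hz, hmz⟩ := hA.exists_pow hK hn hq hnN hN'
  obtain ⟨c, hc, hcz⟩ := hB.scal f hz
  refine ⟨c, hc, ?_⟩
  have h1 := e.eig (m ^ N)
  rw [Subgroup.coe_pow, hmz, T_mul, mem_Fx.1 e.fix, hcz, e.pow] at h1
  have h2 : (χ m ^ N - f c) • w = 0 := by rw [sub_smul, h1, sub_self]
  rw [smul_eq_zero, or_iff_left e.ne, sub_eq_zero] at h2
  exact h2

/-- cube roots of unity -/
theorem cube_one {c : F} (hc : c ^ 3 = 1) (h : Fintype.card F % 3 ≠ 1) : c = 1 := by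
  have h0 : c ≠ 0 := by
    rintro rfl
    rw [zero_pow three_ne_zero] at hc
    exact zero_ne_one hc
  have h1 := FiniteField.pow_card_sub_one_eq_one c h0
  have h2 : 2 ≤ Fintype.card F := Fintype.one_lt_card
  have h3 : Fintype.card F % 3 = 0 ∨ Fintype.card F % 3 = 2 := by omega
  rcases h3 with h3 | h3
  · have h4 : Fintype.card F - 1 = 3 * ((Fintype.card F - 3) / 3) + 2 := by omega
    rw [h4, pow_add, pow_mul, hc, one_pow, one_mul] at h1
    calc c = c ^ 2 * c := by rw [h1, one_mul]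
      _ = c ^ 3 := by ring
      _ = 1 := hc
  · have h4 : Fintype.card F - 1 = 3 * ((Fintype.card F - 2) / 3) + 1 := by omega
    rwa [h4, pow_add, pow_mul, hc, one_pow, one_mul, pow_one] at h1

theorem per_mod {k : Type w} [Field k] {x : k} {n e : ℕ} (hx : IsPrimitiveRoot x n) (hn : 0 < n) (he : 1 ≤ e) :
    x ^ e = x ↔ e % n = 1 % n := by
  have h0 : x ≠ 0 := hx.ne_zero hn.ne'
  obtain ⟨d, rfl⟩ : ∃ d, e = d + 1 := ⟨e - 1, by omega⟩
  have h1 : (d + 1) % n = 1 % n ↔ n ∣ d := by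
    have h2 := Nat.modEq_iff_dvd' (n := n) (show 1 ≤ d + 1 by omega)
    rw [Nat.add_sub_cancel] at h2
    rw [← h2]
    exact eq_comm
  rw [h1, ← hx.pow_eq_one_iff_dvd, pow_succ]
  constructor
  · intro h
    have h3 : (x ^ d - 1) * x = 0 := by linear_combination h
    exact sub_eq_zero.1 ((mul_eq_zero.1 h3).resolve_right h0)
  · intro h
    rw [h, one_mul]

/-! ### the main part -/

section main

variable {p a b : ℕ} {Γ : Subgroup ↥(Zgrp F)}

/-- **the length of the orbit** -/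
theorem best_facts (h : Cfg p a b Γ M ψ) (hA : Ac M ψ ι) {j n : ℕ} (hj1 : 1 ≤ j) (hn : a = j * n)
    (hm0 : ∃ m, ∀ x, fa K (ι m) x = x ^ p ^ j) (hq : ∀ m, ∃ q, ∀ x, fa K (ι m) x = x ^ p ^ (j * q))
    {s : AlgebraicClosure F →+* AlgebraicClosure F} (hs : ∀ x, s x = x ^ Fintype.card F)
    {R : Representation (AlgebraicClosure F) ↥(Zgrp (AlgebraicClosure F)) (I27 → AlgebraicClosure F)}
    {χ : ↥M → AlgebraicClosure F} {w : I27 → AlgebraicClosure F} {D : ℕ}
    (B : Best (Fintype.card F) (algebraMap F (AlgebraicClosure F)) ψ M R χ w D) :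
    D = 3 ∧ n ≠ 1 ∧ Fintype.card F % 3 = 1 ∧ ∃ (m1 : ↥M) (c : ℕ), 9 ∣ c ∧ IsPrimitiveRoot (χ m1) c := by
  have hp : Fact p.Prime := ⟨h.prime⟩
  have hcF := h.charF
  have hcK := h.charK
  have hfM : Finite ↥M := inferInstance
  obtain ⟨m1, c, hc0, hprim, hgen⟩ := B.e.exists_gen
  obtain ⟨ρ, hB⟩ := BC.of_right (F := F) B.rep
  have hck : CharP (AlgebraicClosure F) p :=
    charP_of_injective_ringHom (algebraMap F (AlgebraicClosure F)).injective p
  have hr2 : 2 ≤ Fintype.card F := Fintype.one_lt_card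
  have hr1 : ∀ d, 1 ≤ Fintype.card F ^ d := fun d => Nat.one_le_pow _ _ (by omega)
  -- the exponent
  obtain ⟨N, hN, hnN, hN', h3n⟩ : ∃ N, ((p = 2 ∧ N = n) ∨ (p ≠ 2 ∧ N = Nat.lcm 2 n)) ∧ n ∣ N ∧ (Even N ∨ CharP K 2) ∧
      (3 ∣ N → n ≠ 1) := by
    by_cases h2 : p = 2
    · refine ⟨n, Or.inl ⟨h2, rfl⟩, dvd_rfl, Or.inr (h2 ▸ hcK), ?_⟩
      rintro h3 rfl
      omega
    · refine ⟨Nat.lcm 2 n, Or.inr ⟨h2, rfl⟩, Nat.dvd_lcm_right 2 n, Or.inl ?_, ?_⟩
      · exact even_iff_two_dvd.2 (Nat.dvd_lcm_left 2 n)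
      · rintro h3 rfl
        rw [Nat.lcm_one_right] at h3
        omega
  obtain ⟨d, hd3, hd⟩ := pow_facts h.cardK hA hn hq hnN hN' hB B.e m1
  have h3N : c ∣ 3 * N := by
    rw [← hprim.pow_eq_one_iff_dvd, mul_comm, pow_mul, hd, ← map_pow, hd3, map_one]
  have h1N : Fintype.card F % 3 ≠ 1 → c ∣ N := by
    intro h3
    rw [← hprim.pow_eq_one_iff_dvd, hd, cube_one hd3 h3, map_one]
  have hcop : Nat.Coprime (Fintype.card F) c := by
    obtain ⟨e, -, he⟩ := FiniteField.card F p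
    rw [he]
    apply Nat.Coprime.pow_left
    rw [hp.out.coprime_iff_not_dvd]
    intro hpc
    have : NeZero c := ⟨hc0.ne'⟩
    have h4 := hprim.neZero'
    exact h4.out ((CharP.cast_eq_zero_iff (AlgebraicClosure F) p c).2 hpc)
  have hper : Fintype.card F ^ D % c = 1 % c := (per_mod hprim hc0 (hr1 D)).1 (B.per.2 m1)
  have hmin : ∀ d, 1 ≤ d → Fintype.card F ^ d % c = 1 % c → D ≤ d := fun d hd1 hd =>
    B.min R B.rep χ w d B.e ((per_iff hgen).2 ⟨hd1, (per_mod hprim hc0 (hr1 d)).2 hd⟩)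
  have hfin : D ≤ finrank (AlgebraicClosure F) (Fx (algebraMap F (AlgebraicClosure F)) ψ R) := by
    rw [← B.finrank_Y hs]
    exact Submodule.finrank_mono (B.Y_le hs)
  have hpat := pat_facts h.cardK hA h.set.inj hj1 hn hm0 B.rep B.pos hfin hN
  obtain ⟨hD3, hD3', hD2⟩ := arith hc0 hcop h3N h1N hper B.pos hmin hpat
  obtain ⟨W, -, hW2, hW3⟩ := _root_.Cfsg.Agent.R2.H8.NoFix.Sel.exists_form (M := M) hs hB (B.Y_frob hs) (fun m y hy => B.Y_stable hs m hy)
  rw [B.finrank_Y hs] at hW2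
  have hne1 : D ≠ 1 := by
    intro hD1
    rw [hD1] at hW2
    exact h.noLine ρ hB.left W hW3 hW2
  have hne2 : D ≠ 2 := by
    intro hD2'
    rcases h.fam with ⟨-, -, h2⟩ | ⟨hF, -⟩
    · rw [hD2'] at hW2
      exact h2 ρ hB.left W hW3 hW2
    · exact hD2 _ hF hD2'
  have hD1 := B.pos
  have hDe : D = 3 := by omega
  obtain ⟨h9, hr3, h3N'⟩ := hD3' hDe
  exact ⟨hDe, h3n h3N', hr3, m1, c, h9, hprim⟩

theorem ts_span {k : Type w} [Field k] {S : Set (I27 → k)} (h1 : ∀ x ∈ S, sh x = 0)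
    (h2 : ∀ x ∈ S, ∀ y ∈ S, cr x y = 0) : ∀ x ∈ Submodule.span k S, sh x = 0 := by
  have hz : ∀ x : I27 → k, cr (0 : I27 → k) x = 0 := fun x => by
    have := cr_smul_left (0 : k) (0 : I27 → k) x
    rwa [zero_smul, zero_smul] at this
  have h3 : ∀ x ∈ Submodule.span k S, ∀ y ∈ S, cr x y = 0 := by
    intro x hx y hy
    induction hx using Submodule.span_induction with
    | mem x hx => exact h2 x hx y hy
    | zero => exact hz y
    | add a b _ _ ha hb => rw [cr_add_left, ha, hb, add_zero]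
    | smul c a _ ha => rw [cr_smul_left, ha, smul_zero]
  have h4 : ∀ x ∈ Submodule.span k S, ∀ y ∈ Submodule.span k S, cr x y = 0 := by
    intro x hx y hy
    rw [cr_comm]
    induction hy using Submodule.span_induction with
    | mem y hy => rw [cr_comm]; exact h3 x hx y hy
    | zero => exact hz x
    | add a b _ _ ha hb => rw [cr_add_left, ha, hb, add_zero]
    | smul c a _ ha => rw [cr_smul_left, ha, smul_zero]
  intro x hx
  induction hx using Submodule.span_induction with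
  | mem x hx => exact h1 x hx
  | zero =>
    have := sh_smul (0 : k) (0 : I27 → k)
    rwa [zero_pow two_ne_zero, zero_smul, zero_smul] at this
  | add a b ha' hb' ha hb => rw [sh_add, ha, hb, h4 a ha' b hb', add_zero, add_zero]
  | smul c a _ ha => rw [sh_smul, ha, smul_zero]

/-- the conjugates of products -/
theorem wi_cr {k : Type w} [Field k] {s : k →+* k} {r : ℕ} (hs : ∀ x, s x = x ^ r) (i : ℕ) (x y : I27 → k) :
    wi r (cr x y) i = cr (wi r x i) (wi r y i) := by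
  have h1 := Cfsg.Agent.H65.E6Emb.cr_map (f := s ^ i) x y
  have h2 : ∀ z : I27 → k, (fun l => (s ^ i) (z l)) = wi r z i := fun z => by
    funext l
    rw [pow_hom hs]
    rfl
  rw [h2, h2, h2] at h1
  exact h1.symm

theorem wi_sh {k : Type w} [Field k] {s : k →+* k} {r : ℕ} (hs : ∀ x, s x = x ^ r) (i : ℕ) (x : I27 → k) :
    wi r (sh x) i = sh (wi r x i) := by
  have h1 := Cfsg.Agent.H65.E6Emb.sh_map (f := s ^ i) x
  have h2 : ∀ z : I27 → k, (fun l => (s ^ i) (z l)) = wi r z i := fun z => by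
    funext l
    rw [pow_hom hs]
    rfl
  rw [h2, h2] at h1
  exact h1.symm

theorem wi_zero' {k : Type w} [Field k] {s : k →+* k} {r : ℕ} (hs : ∀ x, s x = x ^ r) (i : ℕ) :
    wi r (0 : I27 → k) i = 0 := by
  funext l
  show (0 : k) ^ r ^ i = 0
  rw [← pow_hom hs, map_zero]

theorem wi_wi {k : Type w} [Field k] {r : ℕ} (i j : ℕ) (x : I27 → k) : wi r (wi r x i) j = wi r x (i + j) := by
  funext l
  show (x l ^ r ^ i) ^ r ^ j = x l ^ r ^ (i + j)
  rw [← pow_mul, ← pow_add]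

theorem wi_0 {k : Type w} [Field k] {r : ℕ} (x : I27 → k) : wi r x 0 = x := by
  funext l
  show x l ^ r ^ 0 = x l
  rw [pow_zero, pow_one]

/-- the last case -/
theorem ts_false (h : Cfg p a b Γ M ψ) (hA : Ac M ψ ι) {j n : ℕ} (hn : a = j * n) (hn1 : n ≠ 1)
    (hm0 : ∃ m, ∀ x, fa K (ι m) x = x ^ p ^ j)
    {s : AlgebraicClosure F →+* AlgebraicClosure F} (hs : ∀ x, s x = x ^ Fintype.card F)
    {R : Representation (AlgebraicClosure F) ↥(Zgrp (AlgebraicClosure F)) (I27 → AlgebraicClosure F)}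
    {χ : ↥M → AlgebraicClosure F} {w : I27 → AlgebraicClosure F}
    (B : Best (Fintype.card F) (algebraMap F (AlgebraicClosure F)) ψ M R χ w 3) (h1 : sh w = 0)
    (h2 : cr w (wi (Fintype.card F) w 1) = 0) : False := by
  have hp : Fact p.Prime := ⟨h.prime⟩
  have hcF := h.charF
  have hcK := h.charK
  have hfM : Finite ↥M := inferInstance
  obtain ⟨ρ, hB⟩ := BC.of_right (F := F) B.rep
  set r := Fintype.card F with hr
  have h3 : wi r w 3 = w := funext B.fixed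
  have hsh : ∀ i, sh (wi r w i) = 0 := fun i => by rw [← wi_sh hs, h1, wi_zero' hs]
  have hc1 : ∀ i, cr (wi r w i) (wi r w (i + 1)) = 0 := fun i => by
    have h4 := wi_cr hs i w (wi r w 1)
    rw [h2, wi_zero' hs, wi_wi, add_comm 1 i] at h4
    exact h4.symm
  have hc : ∀ i j : Fin 3, cr (wi r w i) (wi r w j) = 0 := by
    have hself : ∀ i, cr (wi r w i) (wi r w i) = 0 := fun i => by rw [cr_self, hsh, smul_zero]
    have h02 : cr w (wi r w 2) = 0 := by
      have h4 := hc1 2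
      rw [show 2 + 1 = 3 from rfl, h3, cr_comm] at h4
      exact h4
    intro i j
    fin_cases i <;> fin_cases j
    · exact hself 0
    · exact hc1 0
    · show cr (wi r w 0) (wi r w 2) = 0
      rw [wi_0]
      exact h02
    · show cr (wi r w 1) (wi r w 0) = 0
      rw [cr_comm]
      exact hc1 0
    · exact hself 1
    · exact hc1 1
    · show cr (wi r w 2) (wi r w 0) = 0
      rw [cr_comm, wi_0]
      exact h02
    · show cr (wi r w 2) (wi r w 1) = 0
      rw [cr_comm]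
      exact hc1 1
    · exact hself 2
  have hts : ∀ y ∈ Y r w 3, sh y = 0 := by
    apply ts_span
    · rintro _ ⟨i, rfl⟩
      exact hsh i
    · rintro _ ⟨i, rfl⟩ _ ⟨j, rfl⟩
      exact hc i j
  obtain ⟨W, hW1, hW2, hW3⟩ := _root_.Cfsg.Agent.R2.H8.NoFix.Sel.exists_form (M := M) hs hB (B.Y_frob hs) (fun m y hy => B.Y_stable hs m hy)
  rw [B.finrank_Y hs] at hW2
  refine Three.no_three h.set (fun θ x => ?_) hB.left hW3 hW2 fun x hx => ?_
  · exact two_trivial h.cardK (by have := h.seven; omega) hA hn hn1 hm0 θ x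
  · have h4 := hts _ (hW1 ▸ mem_ext_of_mem (f := algebraMap F (AlgebraicClosure F)) hx)
    rw [Cfsg.Agent.H65.E6Emb.sh_map] at h4
    funext i
    have h5 := congrFun h4 i
    apply (algebraMap F (AlgebraicClosure F)).injective
    rw [h5, Pi.zero_apply, Pi.zero_apply, map_zero]

/-- **no fixed vectors** -/
theorem no_fix (h : Cfg p a b Γ M ψ) (ρ : Representation F ↥(Zgrp F) (I27 → F)) (hρ : ρ = V F ∨ ρ = V' F)
    (v : I27 → F) (hv : ∀ g, ρ (ψ g) v = v) : v = 0 := by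
  by_contra hv0
  have hp : Fact p.Prime := ⟨h.prime⟩
  have hcF := h.charF
  have hcK := h.charK
  have hfM : Finite ↥M := inferInstance
  obtain ⟨ι, hA⟩ := exists_ac h.set
  obtain ⟨j, n, hj1, hn, hm0, hq⟩ := exists_j h.ha h.cardK ι
  have hck : CharP (AlgebraicClosure F) p :=
    charP_of_injective_ringHom (algebraMap F (AlgebraicClosure F)).injective p
  obtain ⟨e, -, he⟩ := FiniteField.card F p
  obtain ⟨s, hs⟩ : ∃ s : AlgebraicClosure F →+* AlgebraicClosure F, ∀ x, s x = x ^ Fintype.card F :=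
    ⟨iterateFrobenius (AlgebraicClosure F) p e, fun x => by rw [he]; rfl⟩
  have hr2 : 2 ≤ Fintype.card F := Fintype.one_lt_card
  -- an eigenvector
  obtain ⟨R, hB⟩ := BC.of_left (k := AlgebraicClosure F) hρ
  have hFx : Fx (algebraMap F (AlgebraicClosure F)) ψ R ≠ ⊥ := by
    intro h0
    have h1 : (fun i => algebraMap F (AlgebraicClosure F) (v i)) ∈ Fx (algebraMap F (AlgebraicClosure F)) ψ R := by
      intro g
      rw [hB.emb, hv]
    rw [h0, Submodule.mem_bot] at h1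
    apply hv0
    funext i
    have h2 := congrFun h1 i
    apply (algebraMap F (AlgebraicClosure F)).injective
    rw [h2, Pi.zero_apply, Pi.zero_apply, map_zero]
  obtain ⟨χ0, w0, E0⟩ := exists_E hB hA hm0 hq hFx
  -- a period
  obtain ⟨d, hd⟩ : ∃ d, Per (Fintype.card F) χ0 d := by
    obtain ⟨m1, c, hc0, hprim, hgen⟩ := E0.exists_gen
    have hcop : Nat.Coprime (Fintype.card F) c := by
      rw [he]
      apply Nat.Coprime.pow_left
      rw [hp.out.coprime_iff_not_dvd]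
      intro hpc
      have : NeZero c := ⟨hc0.ne'⟩
      exact (hprim.neZero').out ((CharP.cast_eq_zero_iff (AlgebraicClosure F) p c).2 hpc)
    refine ⟨Nat.totient c, (per_iff hgen).2 ⟨Nat.totient_pos.2 hc0, ?_⟩⟩
    rw [per_mod hprim hc0 (Nat.one_le_pow _ _ (by omega))]
    exact Nat.ModEq.pow_totient hcop
  obtain ⟨R1, χ1, w1, D1, B1⟩ := exists_best hs hB.right E0 hd
  -- the other module
  have other : ∀ R : Representation (AlgebraicClosure F) ↥(Zgrp (AlgebraicClosure F)) (I27 → AlgebraicClosure F),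
      (R = V (AlgebraicClosure F) ∨ R = V' (AlgebraicClosure F)) → ∃ R', Pair R R' := by
    intro R hR
    rcases hR with rfl | rfl
    · exact ⟨_, Or.inl ⟨rfl, rfl⟩⟩
    · exact ⟨_, Or.inr ⟨rfl, rfl⟩⟩
  have facts := fun {R χ w D}
      (B : Best (Fintype.card F) (algebraMap F (AlgebraicClosure F)) ψ M R χ w D) =>
    best_facts h hA hj1 hn hm0 hq hs B
  have hn1 : n ≠ 1 := (facts B1).2.1
  -- white vectors
  obtain ⟨R2, χ2, w2, B2, hw2⟩ : ∃ R χ w, Best (Fintype.card F) (algebraMap F (AlgebraicClosure F)) ψ M R χ w 3 ∧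
      sh w = 0 := by
    obtain ⟨hD, -, -, m1, c, h9, hprim⟩ := facts B1
    subst hD
    by_cases h1 : sh w1 = 0
    · exact ⟨R1, χ1, w1, B1, h1⟩
    · obtain ⟨R', hP⟩ := other R1 B1.rep
      by_cases h2 : sh (sh w1) = 0
      · exact ⟨R', _, _, B1.sh hs hP h1, h2⟩
      · exfalso
        have h3 := B1.e.cube hP h2 m1
        rw [hprim.pow_eq_one_iff_dvd] at h3
        have h4 := Nat.le_of_dvd (by norm_num) (h9.trans h3)
        omega
  obtain ⟨R', hP⟩ := other R2 B2.rep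
  set r := Fintype.card F with hr
  have h3 : wi r w2 3 = w2 := funext B2.fixed
  have hsh : ∀ i, sh (wi r w2 i) = 0 := fun i => by rw [← wi_sh hs, hw2, wi_zero' hs]
  -- the trilinear form vanishes
  have htri : tf (cr w2 (wi r w2 1)) (wi r w2 2) = 0 := by
    obtain ⟨-, -, hr3, m1, c, h9, hprim⟩ := facts B2
    by_contra ht
    have h4 := T_tf hP (f := algebraMap F (AlgebraicClosure F)) (m1 : ↥(Zgrp F)) (wi r w2 2) (cr w2 (wi r w2 1))
    rw [← T_cr hP, B2.e.eig, (B2.wi hs 1).eig, (B2.wi hs 2).eig, cr_smul_left, cr_smul_right, tf_smul_left,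
      tf_smul_right, tf_smul_right, tf_comm (wi r w2 2)] at h4
    have h5 : χ2 m1 ^ (1 + r + r ^ 2) = 1 := by
      have h6 : (χ2 m1 ^ (1 + r + r ^ 2) - 1) * tf (cr w2 (wi r w2 1)) (wi r w2 2) = 0 := by
        rw [pow_add, pow_add, pow_one]
        rw [pow_one] at h4
        linear_combination h4
      exact sub_eq_zero.1 ((mul_eq_zero.1 h6).resolve_right ht)
    rw [hprim.pow_eq_one_iff_dvd] at h5
    have h6 := h9.trans h5
    obtain ⟨q, hq⟩ : ∃ q, r = 3 * q + 1 := ⟨r / 3, by omega⟩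
    have h7 : 1 + r + r ^ 2 = 9 * (q * q + q) + 3 := by rw [hq]; ring
    rw [h7] at h6
    omega
  by_cases h4 : cr w2 (wi r w2 1) = 0
  · exact ts_false h hA hn hn1 hm0 hs B2 hw2 h4
  · have B3 := B2.cr hs hP 1 h4
    refine ts_false h hA hn hn1 hm0 hs B3 ?_ ?_
    · have h5 := sh_cr w2 (wi r w2 1)
      have hz : cr (0 : I27 → AlgebraicClosure F) 0 = 0 := by
        have := cr_smul_left (0 : AlgebraicClosure F) (0 : I27 → AlgebraicClosure F) 0
        rwa [zero_smul, zero_smul] at this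
      have ht0 : ∀ x : I27 → AlgebraicClosure F, tf 0 x = 0 := fun x => by
        have := tf_smul_left (0 : AlgebraicClosure F) (0 : I27 → AlgebraicClosure F) x
        rwa [zero_smul, zero_mul] at this
      rw [hw2, hsh, hz, add_zero, ht0, tf_comm, ht0, zero_smul, zero_smul, add_zero] at h5
      exact h5
    · rw [wi_cr hs, wi_wi]
      have h5 := cr_cr (wi r w2 1) w2 (wi r w2 2)
      have hz : ∀ x, cr (0 : I27 → AlgebraicClosure F) x = 0 := fun x => by
        have := cr_smul_left (0 : AlgebraicClosure F) (0 : I27 → AlgebraicClosure F) x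
        rwa [zero_smul, zero_smul] at this
      have ht0 : ∀ x : I27 → AlgebraicClosure F, tf 0 x = 0 := fun x => by
        have := tf_smul_left (0 : AlgebraicClosure F) (0 : I27 → AlgebraicClosure F) x
        rwa [zero_smul, zero_mul] at this
      rw [hsh, hz, add_zero, ht0, ht0, zero_smul, zero_smul, add_zero, zero_add, ← tf_cr, cr_comm (wi r w2 1) w2, htri,
        zero_smul] at h5
      exact h5

end main

end Cfsg.Agent.R2.H8.NoFix.Main
end

-- part: R2/H8/Core/Frame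
section
/-!
# S5749, S5750: the frame over an algebraically closed field (helper8)

`fx_of_cfg` : no fixed vectors over an extension field; `fra_of_cfg` : the frame `Fra`; `nts_of_cfg` : no stable totally
singular subspaces; `nts_of_cfg'`.
-/

set_option autoImplicit false
set_option linter.unusedSectionVars false

namespace Cfsg.Agent.R2.H8.Core

open Cfsg Cfsg.Lie Module Matrix
open Cfsg.Agent.ChevalleyStructure
open Cfsg.Agent.ChevalleyStructure.E6Min.Basic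
open Cfsg.Agent.H943.SL2Rel Cfsg.Agent.H943.SL2Mod Cfsg.Agent.H943.RepAdd
open Cfsg.Agent.R2.H28.SL2
open Cfsg.Agent.H163.E6 (V V')
open Cfsg.Agent.H65.E6Emb
open Cfsg.Agent.R2.GEO (Pair)
open Cfsg.Agent.R2.H9.E6
open Cfsg.Agent.R2.H22.Loc (Nts)

universe u v w

variable {F : Type u} [Field F] [Fintype F] {K : Type v} [Field K] [Fintype K] {p a b : ℕ}
  {Γ M : Subgroup ↥(Zgrp F)} {ψ : ProjectiveSpecialLinearGroup (Fin 2) K →* ↥(Zgrp F)}

/-- **no fixed vectors over an extension field** -/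
theorem fx_of_cfg (h : Cfg p a b Γ M ψ) {k : Type w} [Field k] (f : F →+* k)
    {ρ : Representation k ↥(Zgrp k) (I27 → k)} (hρ : ρ = V k ∨ ρ = V' k) (x : I27 → k)
    (hx : ∀ g, ρ (((emb f).comp (ψ.comp pq)) g) x = x) : x = 0 := by
  rcases hρ with rfl | rfl
  · have h1 := ext_inv_V (f := f) ψ
    have h2 : Representation.invariants (MonoidHom.comp (V F) ψ) = ⊥ := by
      rw [eq_bot_iff]
      intro z hz
      exact (Submodule.mem_bot F).2 (NoFix.Main.no_fix h _ (Or.inl rfl) z ((Representation.mem_invariants _ _).1 hz))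
    rw [h2, ext_bot] at h1
    have h3 : x ∈ Representation.invariants (MonoidHom.comp (V k) ((emb f).comp ψ)) := by
      rw [Representation.mem_invariants]
      intro a
      obtain ⟨g, rfl⟩ := pq_surjective a
      exact hx g
    rw [← h1] at h3
    exact (Submodule.mem_bot k).1 h3
  · have h1 := ext_inv_V' (f := f) ψ
    have h2 : Representation.invariants (MonoidHom.comp (V' F) ψ) = ⊥ := by
      rw [eq_bot_iff]
      intro z hz
      exact (Submodule.mem_bot F).2 (NoFix.Main.no_fix h _ (Or.inr rfl) z ((Representation.mem_invariants _ _).1 hz))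
    rw [h2, ext_bot] at h1
    have h3 : x ∈ Representation.invariants (MonoidHom.comp (V' k) ((emb f).comp ψ)) := by
      rw [Representation.mem_invariants]
      intro a
      obtain ⟨g, rfl⟩ := pq_surjective a
      exact hx g
    rw [← h1] at h3
    exact (Submodule.mem_bot k).1 h3

theorem h_neg_one [DecidableEq K] : pq (h (-1 : Kˣ)) = (1 : ProjectiveSpecialLinearGroup (Fin 2) K) := by
  rw [pq_eq_one]
  right
  ext i j
  (revert i j; simp only [h, _root_.Fin.forall_fin_succ, _root_.Units.val_neg, _root_.Units.val_one, _root_.inv_neg, _root_.inv_one, _root_.Matrix.of_apply, _root_.Matrix.cons_val', _root_.Matrix.cons_val_fin_one, _root_.Matrix.SpecialLinearGroup.coe_neg, _root_.Matrix.SpecialLinearGroup.coe_one, _root_.Matrix.neg_apply, Fin.isValue, _root_.Matrix.cons_val_zero, _root_.Matrix.cons_val_succ, _root_.IsEmpty.forall_iff, _root_.and_true, _root_.Matrix.one_apply_eq, Nat.reduceAdd, _root_.Fin.succ_zero_eq_one,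 _root_.ne_eq, _root_.zero_ne_one, _root_.not_false_eq_true, _root_.Matrix.one_apply_ne, _root_.neg_zero, _root_.and_self, _root_.Fin.succ_ne_zero, _root_.neg_inj, _root_.true_and])

/-- **the frame** -/
theorem fra_of_cfg (h : Cfg p a b Γ M ψ) (hp : p ≠ 2) [Fact p.Prime] {k : Type w} [Field k] [DecidableEq k]
    [IsAlgClosed k] [DecidableEq K] [CharP k p] [CharP K p] (f : F →+* k)
    {ρ ρ' : Representation k ↥(Zgrp k) (I27 → k)} (hρ : Pair ρ ρ') : Fra p a ((emb f).comp (ψ.comp pq)) ρ ρ' where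
  perf := Cfsg.Agent.TwoFusion.SLTwoFacts.commutator_eq_top (F := K) (by have := h.seven; omega)
  card := h.cardK
  odd := hp
  pair := hρ
  cen := by
    rw [MonoidHom.comp_apply, MonoidHom.comp_apply, h_neg_one, map_one, map_one]
  fix x hx := fx_of_cfg h f (hρ.imp (fun h => h.1) fun h => h.1) x hx
  fix' x hx := fx_of_cfg h f (hρ.symm.imp (fun h => h.2) fun h => h.2) x hx

/-- **no stable totally singular subspaces** -/
theorem nts_of_cfg (h : Cfg p a b Γ M ψ) (hp : p ≠ 2) [Fact p.Prime] {k : Type u} [Field k] [DecidableEq k]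
    [Algebra F k] [Algebra.IsAlgebraic F k] [IsAlgClosed k] [DecidableEq K] [CharP k p] [CharP K p] (ι : K →+* k)
    {ρ ρ' : Representation k ↥(Zgrp k) (I27 → k)} (hρ : Pair ρ ρ') :
    Nts ((emb (algebraMap F k)).comp (ψ.comp pq)) ρ := by
  intro W hst hts
  by_contra h0
  have f := fra_of_cfg h hp (algebraMap F k) hρ
  have hex : ¬ Cfsg.Agent.R2.H22.Root.Exc F p b := by
    rintro ⟨h1, -⟩
    have h3 : p ∣ 2 := by
      rw [← h1]
      exact dvd_pow_self p (by have := h.hb; omega)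
    exact hp ((Nat.prime_dvd_prime_iff_eq h.prime Nat.prime_two).1 h3)
  have hst' : ∀ x, ∀ w ∈ W, ρ (emb (algebraMap F k) (ψ x)) w ∈ W := by
    intro x
    obtain ⟨g, rfl⟩ := pq_surjective x
    exact hst g
  rcases f.ts_dim ι hst hts h0 with h3 | h6
  · exact Cfsg.Agent.R2.H22.Root.no_ts_three h hp ρ (hρ.imp (fun h => h.1) fun h => h.1) h3 hts hst'
  · exact Cfsg.Agent.R2.H22.Root.no_ts_six h hex ρ (hρ.imp (fun h => h.1) fun h => h.1) h6 hts hst'

end Cfsg.Agent.R2.H8.Core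
end
end

-- part: R2/H8/Core/Main
section
prune_inst 0xffefffbbfefbdfffff7e3ffffefffdffbb3fffa6dff9cbffe8efff8bff5b90cbe5fbaf8febb3fe0ff6ea3c10fd7b43ffffeeffeb6bdc7ffffd5ff45ffbffdfffffbd1d71ffbcbe1ffc6fff9bf0778e7f000000000000000000000000000000000200000000
set_option linter.all false
open scoped Cfsg.Agent.FastGrp

-- part: R2/H8/Core/Alt
section
/-!
# S5749, S5750, type `22 + 22 + 22`, `p ≥ 5`: the trilinear form on a submodule of type `22` (helper8)

* `alt_all` : an alternating configuration `v s t` with `T (v 0 0) (v 1 1) (v 2 2) = 0` has `T = 0`;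
* `nz22` : `T (v 0 0) (v 1 1) (v 2 2) ≠ 0` for the image of a nonzero equivariant map from `V_{2p^i} ⊗ V_{2p^j}`.
-/

set_option autoImplicit false
set_option linter.unusedSectionVars false
set_option maxHeartbeats 400000

namespace Cfsg.Agent.R2.H8.Core

open Matrix TensorProduct
open Cfsg.Agent.H943.SL2Rel Cfsg.Agent.H943.SL2Mod Cfsg.Agent.H943.RepAdd
open Cfsg.Lie
open Cfsg.Agent.ChevalleyStructure Cfsg.Agent.ChevalleyStructure.E6Form.Cubic
  Cfsg.Agent.ChevalleyStructure.E6Form.Table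
open Cfsg.Agent.ChevalleyStructure.E6Min.Basic (Zgrp)
open Cfsg.Agent.ChevalleyStructure.E6Min.Inv
open Cfsg.Agent.H952.F4 (sh cr tf)
open Cfsg.Agent.H952.F4.Jord
open Cfsg.Agent.R2.GEO (Pair crB crB_apply tfB tfB_apply)
open Cfsg.Agent.R2.H28.SL2

universe u v w x

section Abs

variable {k : Type u} [Field k]

theorem tri12 (x y z : I27 → k) : tf (cr x y) z = tf (cr y x) z := by rw [cr_comm]

theorem tri23 (x y z : I27 → k) : tf (cr x y) z = tf (cr x z) y := by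
  rw [tf_cr, cr_comm y z, ← tf_cr]

theorem tfz_right (x : I27 → k) : tf x 0 = 0 := by
  have h := tf_smul_right (0 : k) x 0
  rwa [zero_smul, zero_mul] at h

theorem tfz_left (x : I27 → k) : tf 0 x = 0 := by rw [tf_comm, tfz_right]

variable {v : Fin 3 → Fin 3 → (I27 → k)} (h2 : (2 : k) ≠ 0)
  (hc : ∀ s s' t t', cr (v s t) (v s' t') + cr (v s t') (v s' t) = 0)

include h2 hc

theorem alt_t12 (s s' s'' t t' t'' : Fin 3) :
    tf (cr (v s t) (v s' t')) (v s'' t'') = -tf (cr (v s t') (v s' t)) (v s'' t'') := by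
  have h := hc s s' t t'
  rw [eq_neg_of_add_eq_zero_left h, ← neg_one_smul k, tf_smul_left, neg_one_mul]

theorem alt_t23 (s s' s'' t t' t'' : Fin 3) :
    tf (cr (v s t) (v s' t')) (v s'' t'') = -tf (cr (v s t) (v s' t'')) (v s'' t') := by
  rw [tri12, tri23, tri12, alt_t12 h2 hc, tri12, tri23, tri12]

theorem alt_s12 (s s' s'' t t' t'' : Fin 3) :
    tf (cr (v s t) (v s' t')) (v s'' t'') = -tf (cr (v s' t) (v s t')) (v s'' t'') := by
  rw [alt_t12 h2 hc, tri12]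

theorem self_neg {x : k} (h : x = -x) : x = 0 := by
  have h3 : (2 : k) * x = 0 := by linear_combination h
  exact (mul_eq_zero.1 h3).resolve_left h2

theorem alt_s (h0 : tf (cr (v 0 0) (v 1 1)) (v 2 2) = 0) (t t' t'' : Fin 3) :
    tf (cr (v 0 t) (v 1 t')) (v 2 t'') = 0 := by
  have e12 := fun t t' t'' : Fin 3 => alt_t12 h2 hc 0 1 2 t t' t''
  have e23 := fun t t' t'' : Fin 3 => alt_t23 h2 hc 0 1 2 t t' t''
  have z12 : ∀ t t'' : Fin 3, tf (cr (v 0 t) (v 1 t)) (v 2 t'') = 0 := fun t t'' => self_neg h2 hc (e12 t t t'')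
  have z23 : ∀ t t' : Fin 3, tf (cr (v 0 t) (v 1 t')) (v 2 t') = 0 := fun t t' => self_neg h2 hc (e23 t t' t')
  have z13 : ∀ t t' : Fin 3, tf (cr (v 0 t) (v 1 t')) (v 2 t) = 0 := fun t t' => by
    rw [e12, z23, neg_zero]
  have c : ∀ t t' t'' : Fin 3, t = t' ∨ t' = t'' ∨ t = t'' ∨ (t = 0 ∧ t' = 1 ∧ t'' = 2) ∨ (t = 1 ∧ t' = 0 ∧ t'' = 2) ∨
      (t = 0 ∧ t' = 2 ∧ t'' = 1) ∨ (t = 1 ∧ t' = 2 ∧ t'' = 0) ∨ (t = 2 ∧ t' = 0 ∧ t'' = 1) ∨
      (t = 2 ∧ t' = 1 ∧ t'' = 0) := by decide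
  rcases c t t' t'' with rfl | rfl | rfl | ⟨rfl, rfl, rfl⟩ | ⟨rfl, rfl, rfl⟩ | ⟨rfl, rfl, rfl⟩ | ⟨rfl, rfl, rfl⟩ |
    ⟨rfl, rfl, rfl⟩ | ⟨rfl, rfl, rfl⟩
  · exact z12 _ _
  · exact z23 _ _
  · exact z13 _ _
  · exact h0
  · rw [e12, h0, neg_zero]
  · rw [e23, h0, neg_zero]
  · rw [e23, e12, h0, neg_zero, neg_zero]
  · rw [e12, e23, h0, neg_zero, neg_zero]
  · rw [e12, e23, e12, h0, neg_zero, neg_zero, neg_zero]

/-- **the trilinear form on an alternating configuration** -/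
theorem alt_all (h0 : tf (cr (v 0 0) (v 1 1)) (v 2 2) = 0) (s s' s'' t t' t'' : Fin 3) :
    tf (cr (v s t) (v s' t')) (v s'' t'') = 0 := by
  have z12 : ∀ s s'' t t' t'', tf (cr (v s t) (v s t')) (v s'' t'') = 0 := fun s s'' t t' t'' =>
    self_neg h2 hc (alt_s12 h2 hc s s s'' t t' t'')
  have z23 : ∀ s s' t t' t'', tf (cr (v s t) (v s' t')) (v s' t'') = 0 := fun s s' t t' t'' => by
    rw [tri12, tri23, z12]
  have z13 : ∀ s s' t t' t'', tf (cr (v s t) (v s' t')) (v s t'') = 0 := fun s s' t t' t'' => by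
    rw [tri12, z23]
  have c : ∀ t t' t'' : Fin 3, t = t' ∨ t' = t'' ∨ t = t'' ∨ (t = 0 ∧ t' = 1 ∧ t'' = 2) ∨ (t = 1 ∧ t' = 0 ∧ t'' = 2) ∨
      (t = 0 ∧ t' = 2 ∧ t'' = 1) ∨ (t = 1 ∧ t' = 2 ∧ t'' = 0) ∨ (t = 2 ∧ t' = 0 ∧ t'' = 1) ∨
      (t = 2 ∧ t' = 1 ∧ t'' = 0) := by decide
  rcases c s s' s'' with rfl | rfl | rfl | ⟨rfl, rfl, rfl⟩ | ⟨rfl, rfl, rfl⟩ | ⟨rfl, rfl, rfl⟩ | ⟨rfl, rfl, rfl⟩ |
    ⟨rfl, rfl, rfl⟩ | ⟨rfl, rfl, rfl⟩
  · exact z12 _ _ _ _ _
  · exact z23 _ _ _ _ _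
  · exact z13 _ _ _ _ _
  · exact alt_s h2 hc h0 _ _ _
  · rw [tri12]; exact alt_s h2 hc h0 _ _ _
  · rw [tri23]; exact alt_s h2 hc h0 _ _ _
  · rw [tri23, tri12]; exact alt_s h2 hc h0 _ _ _
  · rw [tri12, tri23]; exact alt_s h2 hc h0 _ _ _
  · rw [tri12, tri23, tri12]; exact alt_s h2 hc h0 _ _ _

/-- the cubic form vanishes -/
theorem alt_N (h3 : (3 : k) ≠ 0) (h0 : tf (cr (v 0 0) (v 1 1)) (v 2 2) = 0) : ∀ x ∈ Xv v, cubicT x = 0 := by
  have key : ∀ x ∈ Xv v, ∀ y ∈ Xv v, ∀ z ∈ Xv v, tf (cr x y) z = 0 := by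
    intro x hx y hy z hz
    unfold Xv at hx hy hz
    induction hx using Submodule.span_induction with
    | mem x hx =>
      obtain ⟨⟨s, t⟩, rfl⟩ := hx
      induction hy using Submodule.span_induction with
      | mem y hy =>
        obtain ⟨⟨s', t'⟩, rfl⟩ := hy
        induction hz using Submodule.span_induction with
        | mem z hz =>
          obtain ⟨⟨s'', t''⟩, rfl⟩ := hz
          exact alt_all h2 hc h0 _ _ _ _ _ _
        | zero => exact tfz_right _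
        | add y z _ _ hy hz => rw [tf_add_right, hy, hz, add_zero]
        | smul c y _ hy => rw [tf_smul_right, hy, mul_zero]
      | zero => rw [crz_right, tfz_left]
      | add y z _ _ hy hz => rw [cr_add_right, tf_add_left, hy, hz, add_zero]
      | smul c y _ hy => rw [cr_smul_right, tf_smul_left, hy, mul_zero]
    | zero => rw [crz_left, tfz_left]
    | add y z _ _ hy hz => rw [cr_add_left, tf_add_left, hy, hz, add_zero]
    | smul c y _ hy => rw [cr_smul_left, tf_smul_left, hy, mul_zero]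
  intro x hx
  have h := key x hx x hx x hx
  rw [cr_self, tf_smul_left, tf_sh_self] at h
  exact (mul_eq_zero.1 ((mul_eq_zero.1 h).resolve_left h2)).resolve_left h3

end Abs

variable {k : Type u} [Field k] [DecidableEq k] [IsAlgClosed k] {K : Type w} [Field K] [Fintype K] [DecidableEq K]
  (ι : K →+* k) {p a : ℕ} [Fact p.Prime] [CharP k p] [CharP K p]
  {ψ : _root_.Matrix.SpecialLinearGroup (Fin 2) K →* ↥(Zgrp k)} {ρ ρ' : Representation k ↥(Zgrp k) (I27 → k)}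

section

variable {A : Type x} [AddCommGroup A] [Module k A] [FiniteDimensional k A] {B : Type x} [AddCommGroup B] [Module k B]
  [FiniteDimensional k B] {σ : Representation k (_root_.Matrix.SpecialLinearGroup (Fin 2) K) A}
  {τ : Representation k (_root_.Matrix.SpecialLinearGroup (Fin 2) K) B}

/-- the alternating property -/
theorem alt22 (f : Fra p a ψ ρ ρ') (hp4 : 4 < p) {i j : ℕ} (hij : i ≠ j) (hi : i < a) (hj : j < a)
    (hσ : IsV ι p σ (2 * p ^ i)) (hτ : IsV ι p τ (2 * p ^ j)) {E : A ⊗[k] B →ₗ[k] (I27 → k)}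
    (hE : ∀ g x, E (σ.tprod τ g x) = Rr ρ ψ g (E x))
    (hno : ∀ c, InSoc ι p (Rr ρ' ψ) c → c ≠ 4 * p ^ i + 4 * p ^ j ∧ c ≠ 4 * p ^ i ∧ c ≠ 4 * p ^ j) (s s' : A) (t t' : B) :
    cr (E (s ⊗ₜ t)) (E (s' ⊗ₜ t')) + cr (E (s ⊗ₜ t')) (E (s' ⊗ₜ t)) = 0 := by
  let β : A ⊗[k] B →ₗ[k] A ⊗[k] B →ₗ[k] (I27 → k) := (crB k).compl₁₂ E E
  have hβ : ∀ x y, β x y = cr (E x) (E y) := fun x y => rfl
  refine quad_zero ι p σ τ (Rr ρ' ψ) β (fun x y => by rw [hβ, hβ, cr_comm]) (fun g x y => by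
    rw [hβ, hβ, hE, hE]
    exact pair_cr f.pair (ψ g) _ _) ?_ s s' t t'
  rw [cf_sqsq ι f.card hp4 hij hi hj hσ hτ]
  intro c hc h
  have h1 := hno c h
  simp only [Multiset.insert_eq_cons, Multiset.mem_cons, Multiset.mem_singleton] at hc
  rcases hc with rfl | rfl | rfl | rfl
  · exact h1.1 rfl
  · exact h1.2.1 rfl
  · exact h1.2.2 rfl
  · exact f.swap.soc_ne_zero ι h rfl

/-- equivariant maps from `V_{2p^i} ⊗ V_{2p^j}` are injective -/
theorem inj22 (f : Fra p a ψ ρ ρ') (hp4 : 4 < p) {i j : ℕ} (hij : i ≠ j) 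
    (hσ : IsV ι p σ (2 * p ^ i)) (hτ : IsV ι p τ (2 * p ^ j)) {E : A ⊗[k] B →ₗ[k] (I27 → k)}
    (hE : ∀ g x, E (σ.tprod τ g x) = Rr ρ ψ g (E x)) (h0 : E ≠ 0) : Function.Injective E := by
  have hirr := (isV_tens ι p f.card hσ hτ fun l _ => digit_disj p (by omega) (by omega) hij l).irr
  rcases hirr.2 (LinearMap.ker E) (fun g x hx => by
    rw [LinearMap.mem_ker] at hx ⊢
    rw [hE, hx, map_zero]) with h | h
  · exact LinearMap.ker_eq_bot.1 h
  · exact absurd (LinearMap.ker_eq_top.1 h) h0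

/-- **the trilinear form does not vanish** -/
theorem nz22 (f : Fra p a ψ ρ ρ') (hp4 : 4 < p) {i j : ℕ} (hij : i ≠ j) (hi : i < a) (hj : j < a)
    (hσ : IsV ι p σ (2 * p ^ i)) (hτ : IsV ι p τ (2 * p ^ j)) {E : A ⊗[k] B →ₗ[k] (I27 → k)}
    (hE : ∀ g x, E (σ.tprod τ g x) = Rr ρ ψ g (E x)) (h0 : E ≠ 0)
    (hno : ∀ c, InSoc ι p (Rr ρ' ψ) c → c ≠ 4 * p ^ i + 4 * p ^ j ∧ c ≠ 4 * p ^ i ∧ c ≠ 4 * p ^ j)
    (bA : Module.Basis (Fin 3) k A) (bB : Module.Basis (Fin 3) k B) :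
    tf (cr (E (bA 0 ⊗ₜ bB 0)) (E (bA 1 ⊗ₜ bB 1))) (E (bA 2 ⊗ₜ bB 2)) ≠ 0 := by
  intro hT
  have h2 : (2 : k) ≠ 0 := two_ne f.odd
  have h3 : (3 : k) ≠ 0 := three_ne (p := p) (by omega)
  have hEi := inj22 ι f hp4 hij hσ hτ hE h0
  have hX : ∀ g, ∀ x ∈ LinearMap.range E, Rr ρ ψ g x ∈ LinearMap.range E := by
    rintro g _ ⟨x, rfl⟩
    exact ⟨_, hE g x⟩
  have hb : IsV ι p (subRep (Rr ρ ψ) (LinearMap.range E) hX) (2 * p ^ i + 2 * p ^ j) :=
    IsV.iso ι p (LinearEquiv.ofInjective E hEi) (fun g x => Subtype.ext (hE g x))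
      (isV_tens ι p f.card hσ hτ fun l _ => digit_disj p (by omega) (by omega) hij l)
  let v : Fin 3 → Fin 3 → (I27 → k) := fun s t => E (bA s ⊗ₜ bB t)
  have hc : ∀ s s' t t', cr (v s t) (v s' t') + cr (v s t') (v s' t) = 0 := fun s s' t t' =>
    alt22 ι f hp4 hij hi hj hσ hτ hE hno _ _ _ _
  have hvX : Xv v = LinearMap.range E := by
    apply le_antisymm
    · refine Submodule.span_le.2 ?_
      rintro _ ⟨⟨s, t⟩, rfl⟩
      exact ⟨_, rfl⟩
    · rintro _ ⟨y, rfl⟩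
      rw [← (bA.tensorProduct bB).sum_repr y, map_sum]
      refine Submodule.sum_mem _ fun st _ => ?_
      rw [map_smul]
      refine Submodule.smul_mem _ _ ?_
      rw [Module.Basis.tensorProduct_apply']
      exact Submodule.subset_span ⟨st, rfl⟩
  have hIy : ∀ g, ∀ y ∈ Iy v, Rr ρ' ψ g y ∈ Iy v := by
    intro g y hy
    unfold Iy at hy
    induction hy using Submodule.span_induction with
    | mem y hy =>
      obtain ⟨⟨m, n⟩, rfl⟩ := hy
      show ρ' (ψ g) (cr _ _) ∈ _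
      rw [← pair_cr f.pair]
      refine cr_Xv h2 hc ?_ ?_
      · rw [hvX]
        exact hX g _ ⟨_, rfl⟩
      · rw [hvX]
        exact hX g _ ⟨_, rfl⟩
    | zero => rw [map_zero]; exact Submodule.zero_mem _
    | add y z _ _ hy hz => rw [map_add]; exact Submodule.add_mem _ hy hz
    | smul c y _ hy => rw [map_smul]; exact Submodule.smul_mem _ _ hy
  have hts : ¬ ∀ x ∈ LinearMap.range E, sh x = 0 := by
    intro h5
    obtain ⟨l, hl⟩ := f.ts_irr ι hX hb h5
    have hdX := hb.dim_pair ι f.card (by omega) (by omega) hij hi hj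
    rw [hl] at hb
    have h6 := hb.dim_single ι f.card (by omega)
    omega
  have hss : ∀ x ∈ Xv v, sh (sh x) = 0 := by
    intro x hx
    rw [sh_sh, alt_N h2 hc h3 hT x hx, zero_smul]
  have hI := sh_Iy h2 hc hss
  let γ : LinearMap.range E →ₗ[k] LinearMap.range E →ₗ[k] (Iy v) := LinearMap.mk₂ k
    (fun x y => ⟨(cr (x : I27 → k) y :), cr_Xv h2 hc (by rw [hvX]; exact x.2) (by rw [hvX]; exact y.2)⟩)
    (fun x x' y => Subtype.ext (cr_add_left _ _ _)) (fun c x y => Subtype.ext (cr_smul_left _ _ _))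
    (fun x y y' => Subtype.ext (cr_add_right _ _ _)) (fun c x y => Subtype.ext (cr_smul_right _ _ _))
  obtain ⟨c, hc1, hc2⟩ := soc_of_sq ι p (σ := subRep (Rr ρ ψ) (LinearMap.range E) hX)
    (ρ := subRep (Rr ρ' ψ) (Iy v) hIy) γ
    (fun x y => Subtype.ext (cr_comm _ _)) (fun g x y => Subtype.ext (pair_cr f.pair (ψ g) _ _)) (fun h0 => hts fun x hx => by
      have h6 : γ ⟨x, hx⟩ ⟨x, hx⟩ = 0 := by rw [h0]; rfl
      have h7 : cr x x = 0 := congrArg Subtype.val h6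
      rw [cr_self, smul_eq_zero] at h7
      exact h7.resolve_left h2)
  obtain ⟨Y, hY, hcY⟩ := hc2
  obtain ⟨hY', e', he'⟩ := eqv_map (subRep (Rr ρ' ψ) (Iy v) hIy) (Rr ρ' ψ) (Iy v).subtype (fun _ _ => rfl)
    (Iy v).injective_subtype Y hY
  have hc3 := IsV.iso ι p (e' :) he' hcY
  obtain ⟨l, hl⟩ := f.swap.ts_irr ι hY' hc3 (by
    rintro _ ⟨y, -, rfl⟩
    exact hI _ y.2)
  have hd : Module.finrank k ↥(Submodule.map (Iy v).subtype Y) = 3 := by
    rw [hl] at hc3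
    exact hc3.dim_single ι f.card (by omega)
  rw [sq_22 ι p f.card hp4 hij hi hj hb] at hc1
  simp only [Multiset.insert_eq_cons, Multiset.mem_cons, Multiset.mem_singleton] at hc1
  rcases hc1 with h6 | h6 | h6 | h6 | h6
  · rw [h6] at hc3
    have := hc3.dim_pair ι f.card (by omega) (by omega) hij hi hj
    omega
  · rw [h6] at hc3
    have := hc3.dim_single ι f.card (by omega)
    omega
  · rw [h6] at hc3
    have := hc3.dim_single ι f.card (by omega)
    omega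
  · rw [h6] at hc3
    have := hc3.dim_pair ι f.card (by omega) (by omega) hij hi hj
    omega
  · rw [hl] at h6
    have := Nat.pow_pos (n := l) (show 0 < p by omega)
    omega

end

end Cfsg.Agent.R2.H8.Core
end

-- part: R2/H8/Core/Tri
section
/-!
# S5749, S5750, type `22 + 22 + 22`, `p ≥ 5`: three submodules which form a triangle (helper8)

* `All22` : all composition factors have type `22`;
* `All22.exists_three` : `V = X₀ ⊕ X₁ ⊕ X₂`; `All22.mult_one` : distinct labels; `All22.mixed` : products of two submodules;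
* `All22.triangle` : the submodules for `H14.T.boxT`.
-/

set_option autoImplicit false
set_option linter.unusedSectionVars false
set_option maxHeartbeats 400000

namespace Cfsg.Agent.R2.H8.Core

open Matrix TensorProduct
open Cfsg.Agent.H943.SL2Rel Cfsg.Agent.H943.SL2Mod Cfsg.Agent.H943.RepAdd
open Cfsg.Lie
open Cfsg.Agent.ChevalleyStructure Cfsg.Agent.ChevalleyStructure.E6Form.Cubic
  Cfsg.Agent.ChevalleyStructure.E6Form.Table
open Cfsg.Agent.ChevalleyStructure.E6Min.Basic (Zgrp)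
open Cfsg.Agent.ChevalleyStructure.E6Min.Inv
open Cfsg.Agent.H952.F4 (sh cr tf)
open Cfsg.Agent.H952.F4.Jord
open Cfsg.Agent.R2.GEO (Pair crB crB_apply tfB tfB_apply kr mem_kr finrank_kr_le)
open Cfsg.Agent.R2.H28.SL2
open Cfsg.Agent.R2.SL2 (tyl)
open Cfsg.Agent.R2.H14.T (bw Dg3)

universe u v w x

variable {k : Type u} [Field k] [DecidableEq k] [IsAlgClosed k] {K : Type w} [Field K] [Fintype K] [DecidableEq K]
  (ι : K →+* k) {p a : ℕ} [Fact p.Prime] [CharP k p] [CharP K p]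
  {ψ : _root_.Matrix.SpecialLinearGroup (Fin 2) K →* ↥(Zgrp k)} {ρ ρ' : Representation k ↥(Zgrp k) (I27 → k)}

/-- all composition factors have type `22` -/
structure All22 (p a : ℕ) [Fact p.Prime] [CharP k p] [CharP K p] (ψ : _root_.Matrix.SpecialLinearGroup (Fin 2) K →* ↥(Zgrp k))
    (ρ ρ' : Representation k ↥(Zgrp k) (I27 → k)) : Prop where
  fra : Fra p a ψ ρ ρ'
  five : 5 ≤ p
  all : ∀ c ∈ cf (Sy.{u, u, w} ι p) (Rr ρ ψ), ∃ i j, i ≠ j ∧ i < a ∧ j < a ∧ c = 2 * p ^ i + 2 * p ^ j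

variable {ι}

theorem All22.swap (S : All22 ι p a ψ ρ ρ') : All22 ι p a ψ ρ' ρ :=
  ⟨S.fra.swap, S.five, fun c hc => S.all c (by rwa [S.fra.cf_eq ι] at hc)⟩

theorem All22.soc (S : All22 ι p a ψ ρ ρ') {c : ℕ} (h : InSoc ι p (Rr ρ ψ) c) :
    ∃ i j, i ≠ j ∧ i < a ∧ j < a ∧ c = 2 * p ^ i + 2 * p ^ j := S.all c h.mem_cf

omit [DecidableEq k] [IsAlgClosed k] [DecidableEq K] [CharP k p] [CharP K p] in
theorem pair_cases (h5 : 5 ≤ p) {i j m n c : ℕ} (hij : i ≠ j) (hmn : m ≠ n) (hc : c = 2 * p ^ m + 2 * p ^ n) :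
    c ≠ 4 * p ^ i + 4 * p ^ j ∧ c ≠ 4 * p ^ i ∧ c ≠ 4 * p ^ j := by
  have h1 : tyl p c = [2, 2] := by rw [hc]; exact tyl_pair (by omega) (by omega) le_rfl (by omega) hmn
  refine ⟨?_, ?_, ?_⟩
  · intro h
    rw [h, tyl_pair (by omega) (by omega) le_rfl (by omega) hij] at h1
    simp at h1
  · intro h
    rw [h, tyl_single (by omega) (by omega)] at h1
    simp at h1
  · intro h
    rw [h, tyl_single (by omega) (by omega)] at h1
    simp at h1

theorem All22.no (S : All22 ι p a ψ ρ ρ') {i j : ℕ} (hij : i ≠ j) (c : ℕ) (h : InSoc ι p (Rr ρ' ψ) c) :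
    c ≠ 4 * p ^ i + 4 * p ^ j ∧ c ≠ 4 * p ^ i ∧ c ≠ 4 * p ^ j := by
  obtain ⟨m, n, hmn, -, -, hc⟩ := S.swap.soc h
  exact pair_cases S.five hij hmn hc

/-- a submodule of type `22` -/
structure X22 (ι : K →+* k) (p a : ℕ) [Fact p.Prime] [CharP k p] [CharP K p]
    (r : Representation k (_root_.Matrix.SpecialLinearGroup (Fin 2) K) (I27 → k)) (X : Submodule k (I27 → k)) (i j : ℕ) : Prop where
  ne : i ≠ j
  hi : i < a
  hj : j < a
  isv : ∃ hX : ∀ g, ∀ x ∈ X, r g x ∈ X, IsV ι p (subRep r X hX) (2 * p ^ i + 2 * p ^ j)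

theorem X22.symm {r : Representation k (_root_.Matrix.SpecialLinearGroup (Fin 2) K) (I27 → k)} {X : Submodule k (I27 → k)} {i j : ℕ}
    (T : X22 ι p a r X i j) : X22 ι p a r X j i := by
  obtain ⟨hX, h⟩ := T.isv
  exact ⟨T.ne.symm, T.hj, T.hi, hX, by rwa [add_comm] at h⟩

theorem X22.nine (S : All22 ι p a ψ ρ ρ') {X : Submodule k (I27 → k)} {i j : ℕ}
    (T : X22 ι p a (Rr ρ ψ) X i j) : Module.finrank k X = 9 := by
  obtain ⟨hX, h⟩ := T.isv
  have := S.five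
  exact h.dim_pair ι S.fra.card (by omega) (by omega) T.ne T.hi T.hj

/-- irreducible submodules -/
theorem All22.exists_irr (S : All22 ι p a ψ ρ ρ') {W : Submodule k (I27 → k)} (hW : ∀ g, ∀ x ∈ W, Rr ρ ψ g x ∈ W)
    (hW0 : W ≠ ⊥) : ∃ (X : Submodule k (I27 → k)) (i j : ℕ), X ≤ W ∧ X22 ι p a (Rr ρ ψ) X i j := by
  have : Nontrivial W := Submodule.nontrivial_iff_ne_bot.2 hW0
  obtain ⟨c, Y, hY, hc⟩ := exists_inSoc ι p (subRep (Rr ρ ψ) W hW)
  obtain ⟨hY', e, he⟩ := eqv_map (subRep (Rr ρ ψ) W hW) (Rr ρ ψ) W.subtype (fun _ _ => rfl) W.injective_subtype Y hY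
  have h1 := IsV.iso ι p (e :) he hc
  obtain ⟨i, j, hij, hi, hj, rfl⟩ := S.soc ⟨_, hY', h1⟩
  refine ⟨Y.map W.subtype, i, j, ?_, hij, hi, hj, hY', h1⟩
  rintro _ ⟨y, -, rfl⟩
  exact y.2

/-- complements -/
theorem All22.compl (S : All22 ι p a ψ ρ ρ') {X : Submodule k (I27 → k)} {i j : ℕ} (T : X22 ι p a (Rr ρ ψ) X i j) :
    ∃ C : Submodule k (I27 → k), (∀ g, ∀ x ∈ C, Rr ρ ψ g x ∈ C) ∧ IsCompl X C ∧ Module.finrank k C = 18 := by
  obtain ⟨hX, h⟩ := T.isv
  have := S.five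
  obtain ⟨C, hC, hXC⟩ := S.fra.l22 ι (by omega) T.ne T.hi T.hj X hX h (fun h => (S.no T.ne _ h).2.1 rfl)
    fun h => (S.no T.ne _ h).2.2 rfl
  refine ⟨C, hC, hXC, ?_⟩
  have h1 := Submodule.finrank_add_eq_of_isCompl hXC
  rw [T.nine S, Module.finrank_fintype_fun_eq_card] at h1
  have h2 : Fintype.card I27 = 27 := rfl
  omega

/-- **three submodules** -/
theorem All22.exists_three (S : All22 ι p a ψ ρ ρ') : ∃ (X₀ X₁ X₂ : Submodule k (I27 → k)) (i₀ j₀ i₁ j₁ i₂ j₂ : ℕ),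
    X22 ι p a (Rr ρ ψ) X₀ i₀ j₀ ∧ X22 ι p a (Rr ρ ψ) X₁ i₁ j₁ ∧
      X22 ι p a (Rr ρ ψ) X₂ i₂ j₂ ∧ X₀ ⊓ X₁ = ⊥ ∧ X₀ ⊓ X₂ = ⊥ ∧ X₁ ⊓ X₂ = ⊥ ∧ X₀ ⊔ (X₁ ⊔ X₂) = ⊤ := by
  have h27 : Module.finrank k (I27 → k) = 27 := by
    rw [Module.finrank_fintype_fun_eq_card]
    rfl
  have hnt : (⊤ : Submodule k (I27 → k)) ≠ ⊥ := by
    intro h
    have h1 : Module.finrank k (⊤ : Submodule k (I27 → k)) = 0 := by rw [h, finrank_bot]
    rw [finrank_top, h27] at h1
    omega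
  obtain ⟨X₀, i₀, j₀, -, T₀⟩ := S.exists_irr (W := ⊤) (fun _ _ _ => trivial) hnt
  obtain ⟨V₁, hV₁, hc₀, hd₁⟩ := S.compl T₀
  have hb₁ : V₁ ≠ ⊥ := by
    rintro rfl
    rw [finrank_bot] at hd₁
    omega
  obtain ⟨X₁, i₁, j₁, hX₁, T₁⟩ := S.exists_irr hV₁ hb₁
  obtain ⟨K₁, hK₁, hc₁, hdK⟩ := S.compl T₁
  have hV₂ : ∀ g, ∀ x ∈ V₁ ⊓ K₁, Rr ρ ψ g x ∈ V₁ ⊓ K₁ := fun g x hx => ⟨hV₁ g x hx.1, hK₁ g x hx.2⟩
  have hd₂ : 9 ≤ Module.finrank k ↑(V₁ ⊓ K₁) := by
    have h1 := Submodule.finrank_sup_add_finrank_inf_eq V₁ K₁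
    have h2 := Submodule.finrank_le (V₁ ⊔ K₁)
    omega
  have hb₂ : V₁ ⊓ K₁ ≠ ⊥ := by
    intro h
    rw [h, finrank_bot] at hd₂
    omega
  obtain ⟨X₂, i₂, j₂, hX₂, T₂⟩ := S.exists_irr hV₂ hb₂
  have e1 : X₁ ⊓ X₂ = ⊥ := by
    rw [eq_bot_iff, ← disjoint_iff.1 hc₁.1]
    exact inf_le_inf_left _ (hX₂.trans inf_le_right)
  have e12 : X₁ ⊔ X₂ ≤ V₁ := sup_le hX₁ (hX₂.trans inf_le_left)
  have e0 : X₀ ⊓ (X₁ ⊔ X₂) = ⊥ := by
    rw [eq_bot_iff, ← disjoint_iff.1 hc₀.1]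
    exact inf_le_inf_left _ e12
  refine ⟨X₀, X₁, X₂, i₀, j₀, i₁, j₁, i₂, j₂, T₀, T₁, T₂, ?_, ?_, e1, ?_⟩
  · rw [eq_bot_iff, ← e0]
    exact inf_le_inf_left _ le_sup_left
  · rw [eq_bot_iff, ← e0]
    exact inf_le_inf_left _ le_sup_right
  · apply Submodule.eq_top_of_finrank_eq
    have h1 := Submodule.finrank_sup_add_finrank_inf_eq X₁ X₂
    have h2 := Submodule.finrank_sup_add_finrank_inf_eq X₀ (X₁ ⊔ X₂)
    rw [e1, finrank_bot] at h1
    rw [e0, finrank_bot] at h2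
    have := T₀.nine S
    have := T₁.nine S
    have := T₂.nine S
    omega

/-- **multiplicities** -/
theorem All22.mult_one (S : All22 ι p a ψ ρ ρ') {X X' : Submodule k (I27 → k)} {i j : ℕ}
    (T : X22 ι p a (Rr ρ ψ) X i j) (T' : X22 ι p a (Rr ρ ψ) X' i j) : X ⊓ X' ≠ ⊥ := by
  intro hinf
  have h5 := S.five
  have f := S.fra
  obtain ⟨hX, hb⟩ := T.isv
  obtain ⟨hX', hb'⟩ := T'.isv
  obtain ⟨A, B, _, _, _, _, σ, τ, hσ, hτ, e, he⟩ := hb.split ι p f.card
    (fun l _ => digit_disj p (by omega) (by omega) T.ne l) (single_lt p (by omega) T.hi) (single_lt p (by omega) T.hj)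
  have := hσ.finite
  have := hτ.finite
  have hten := isV_tens ι p f.card hσ hτ fun l _ => digit_disj p (by omega) (by omega) T.ne l
  obtain ⟨e', he'⟩ := IsV.eqv ι p hten hb'
  let E : A ⊗[k] B →ₗ[k] (I27 → k) := X.subtype ∘ₗ (e : A ⊗[k] B →ₗ[k] X)
  let E' : A ⊗[k] B →ₗ[k] (I27 → k) := X'.subtype ∘ₗ (e' : A ⊗[k] B →ₗ[k] X')
  have hE : ∀ g x, E (σ.tprod τ g x) = Rr ρ ψ g (E x) := by
    intro g x
    show ((e (σ.tprod τ g x) : X) : I27 → k) = _
    rw [he]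
    rfl
  have hE' : ∀ g x, E' (σ.tprod τ g x) = Rr ρ ψ g (E' x) := by
    intro g x
    show ((e' (σ.tprod τ g x) : X') : I27 → k) = _
    rw [he']
    rfl
  have hEm : ∀ x, E x ∈ X := fun x => (e x).2
  have hEm' : ∀ x, E' x ∈ X' := fun x => (e' x).2
  have hEi : Function.Injective E := fun x y h => e.injective (Subtype.ext h)
  have hEi' : Function.Injective E' := fun x y h => e'.injective (Subtype.ext h)
  have hnt := hten.irr.1
  obtain ⟨z, hz⟩ := exists_ne (0 : A ⊗[k] B)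
  have hE0' : E' ≠ 0 := fun h => hz (hEi' (by rw [h, map_zero]; rfl))
  let bA := Module.finBasisOfFinrankEq k A (hσ.dim_single ι f.card (by omega))
  let bB := Module.finBasisOfFinrankEq k B (hτ.dim_single ι f.card (by omega))
  have hno := S.no T.ne
  obtain ⟨m0, h0⟩ : ∃ m, m = bA 0 ⊗ₜ[k] bB 0 := ⟨_, rfl⟩
  obtain ⟨m1, h1⟩ : ∃ m, m = bA 1 ⊗ₜ[k] bB 1 := ⟨_, rfl⟩
  obtain ⟨m2, h2⟩ : ∃ m, m = bA 2 ⊗ₜ[k] bB 2 := ⟨_, rfl⟩
  have hne' := nz22 ι f (by omega) T.ne T.hi T.hj hσ hτ hE' hE0' hno bA bB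
  rw [← h0, ← h1, ← h2] at hne'
  have hpoly : ∃ s : k, tf (cr (E' m0) (E' m1)) (E' m2) * s ^ 3 +
      (tf (cr (E m0) (E' m1)) (E' m2) + tf (cr (E' m0) (E m1)) (E' m2) + tf (cr (E' m0) (E' m1)) (E m2)) * s ^ 2 +
      (tf (cr (E m0) (E m1)) (E' m2) + tf (cr (E m0) (E' m1)) (E m2) + tf (cr (E' m0) (E m1)) (E m2)) * s +
      tf (cr (E m0) (E m1)) (E m2) = 0 := by
    obtain ⟨s, hs⟩ := IsAlgClosed.exists_root (Polynomial.C (tf (cr (E' m0) (E' m1)) (E' m2)) * Polynomial.X ^ 3 +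
      Polynomial.C (tf (cr (E m0) (E' m1)) (E' m2) + tf (cr (E' m0) (E m1)) (E' m2) +
        tf (cr (E' m0) (E' m1)) (E m2)) * Polynomial.X ^ 2 +
      Polynomial.C (tf (cr (E m0) (E m1)) (E' m2) + tf (cr (E m0) (E' m1)) (E m2) +
        tf (cr (E' m0) (E m1)) (E m2)) * Polynomial.X +
      Polynomial.C (tf (cr (E m0) (E m1)) (E m2))) (by
        rw [Polynomial.degree_cubic hne']
        norm_num)
    refine ⟨s, ?_⟩
    rw [Polynomial.IsRoot.def] at hs
    simpa only [Polynomial.eval_add, Polynomial.eval_mul, Polynomial.eval_C, Polynomial.eval_pow, Polynomial.eval_X] using hs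
  obtain ⟨s, hs⟩ := hpoly
  refine nz22 ι f (by omega) T.ne T.hi T.hj hσ hτ (E := E + s • E') ?_ ?_ hno bA bB ?_
  · intro g x
    rw [LinearMap.add_apply, LinearMap.smul_apply, hE, hE', LinearMap.add_apply, LinearMap.smul_apply, map_add, map_smul]
  · intro h
    have h3 : E z ∈ X ⊓ X' := by
      refine ⟨hEm z, ?_⟩
      have h4 := LinearMap.congr_fun h z
      rw [LinearMap.add_apply, LinearMap.smul_apply, LinearMap.zero_apply] at h4
      rw [eq_neg_of_add_eq_zero_left h4]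
      exact X'.neg_mem (X'.smul_mem _ (hEm' z))
    rw [hinf] at h3
    exact hz (hEi (by rw [(Submodule.mem_bot k).1 h3, map_zero]))
  · rw [← h0, ← h1, ← h2, LinearMap.add_apply, LinearMap.add_apply, LinearMap.add_apply, LinearMap.smul_apply,
      LinearMap.smul_apply, LinearMap.smul_apply]
    simp only [cr_add_left, cr_add_right, cr_smul_left, cr_smul_right, tf_add_left, tf_add_right, tf_smul_left,
      tf_smul_right]
    linear_combination hs

omit [DecidableEq k] [IsAlgClosed k] [DecidableEq K] [CharP k p] [CharP K p] in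
/-- the digits of the factors of the product -/
theorem digits_mixed (h5 : 5 ≤ p) {i j i' j' m n : ℕ} (hij : i ≠ j) (hi : i < a) (hj : j < a) (hij' : i' ≠ j')
    (hi' : i' < a) (hj' : j' < a) (hmn : m ≠ n) (hd : ¬ ((i = i' ∧ j = j') ∨ (i = j' ∧ j = i')))
    (hc : 2 * p ^ m + 2 * p ^ n ∈ cg p a (2 * p ^ i + 2 * p ^ j) (2 * p ^ i' + 2 * p ^ j')) :
    ∃ q j₁ j₂, q ≠ j₁ ∧ q ≠ j₂ ∧ j₁ ≠ j₂ ∧ ((i = q ∧ j = j₁) ∨ (i = j₁ ∧ j = q)) ∧
      ((i' = q ∧ j' = j₂) ∨ (i' = j₂ ∧ j' = q)) ∧ ((m = j₁ ∧ n = j₂) ∨ (m = j₂ ∧ n = j₁)) := by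
  have hp : p.Prime := Fact.out
  have d1 := fun l => Cfsg.Agent.R2.H14.T.dg_two hp.one_lt (x := 2) (y := 2) (by omega) (by omega) hij l
  have d2 := fun l => Cfsg.Agent.R2.H14.T.dg_two hp.one_lt (x := 2) (y := 2) (by omega) (by omega) hij' l
  have d3 := fun l => Cfsg.Agent.R2.H14.T.dg_two hp.one_lt (x := 2) (y := 2) (by omega) (by omega) hmn l
  obtain ⟨-, h1⟩ := mem_cg hp.pos a (fun l _ => by
    rw [d1, d2]
    split_ifs <;> omega) hc
  -- a digit of exactly one of the labels is a digit of the factor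
  have k1 : ∀ l < a, (l = i ∨ l = j) → ¬ (l = i' ∨ l = j') → (l = m ∨ l = n) := by
    intro l hl h2 h3
    have h4 := (h1 l hl).2.1
    rw [d1, d2, d3] at h4
    by_contra h6
    push Not at h3 h6
    rw [if_neg h3.1, if_neg h3.2, if_neg h6.1, if_neg h6.2] at h4
    rcases h2 with rfl | rfl
    · rw [if_pos rfl] at h4
      omega
    · rw [if_neg (Ne.symm hij), if_pos rfl] at h4
      omega
  have k2 : ∀ l < a, (l = i' ∨ l = j') → ¬ (l = i ∨ l = j) → (l = m ∨ l = n) := by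
    intro l hl h2 h3
    have h4 := (h1 l hl).2.2.1
    rw [d1, d2, d3] at h4
    by_contra h6
    push Not at h3 h6
    rw [if_neg h3.1, if_neg h3.2, if_neg h6.1, if_neg h6.2] at h4
    rcases h2 with rfl | rfl
    · rw [if_pos rfl] at h4
      omega
    · rw [if_neg (Ne.symm hij'), if_pos rfl] at h4
      omega
  have e1 := k1 i hi (Or.inl rfl)
  have e2 := k1 j hj (Or.inr rfl)
  have e3 := k2 i' hi' (Or.inl rfl)
  have e4 := k2 j' hj' (Or.inr rfl)
  clear h1 k1 k2 hc d1 d2 d3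
  by_cases c1 : i = i'
  · have c2 : j ≠ j' := fun h => hd (Or.inl ⟨c1, h⟩)
    exact ⟨i, j, j', hij, by (clear * - hij' c1; omega), c2, Or.inl ⟨rfl, rfl⟩, Or.inl ⟨c1.symm, rfl⟩, by (clear * - hij hij' e2 e4 c1 c2; (solve | lia | omega))⟩
  by_cases c2 : i = j'
  · have c3 : j ≠ i' := fun h => hd (Or.inr ⟨c2, h⟩)
    exact ⟨i, j, i', hij, by omega, c3, Or.inl ⟨rfl, rfl⟩, Or.inr ⟨rfl, c2.symm⟩, by (clear * - hij e2 e3 c1 c2 c3; (solve | lia | omega))⟩
  by_cases c3 : j = i'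
  · exact ⟨j, i, j', by omega, by (clear * - hij' c3; omega), c2, Or.inr ⟨rfl, rfl⟩, Or.inl ⟨c3.symm, rfl⟩, by (clear * - hij' e1 e4 c1 c2 c3; (solve | lia | omega))⟩
  by_cases c4 : j = j'
  · exact ⟨j, i, i', by omega, by omega, c1, Or.inr ⟨rfl, rfl⟩, Or.inr ⟨rfl, c4.symm⟩, by (clear * - e1 e3 c1 c2 c3; (solve | lia | omega))⟩
  · exfalso
    (clear * - hij' e2 e3 e4 c1 c2 c3 c4; (solve | lia | omega))

section

variable {A : Type u} [AddCommGroup A] [Module k A] [FiniteDimensional k A] {B : Type u} [AddCommGroup B] [Module k B]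
  [FiniteDimensional k B] {σ : Representation k (_root_.Matrix.SpecialLinearGroup (Fin 2) K) A}
  {τ : Representation k (_root_.Matrix.SpecialLinearGroup (Fin 2) K) B} {V : Type u} [AddCommGroup V] [Module k V]
  [FiniteDimensional k V] {r : Representation k (_root_.Matrix.SpecialLinearGroup (Fin 2) K) V}

/-- bilinear maps without common factors vanish -/
theorem prod_zero (hK : Fintype.card K = p ^ a) {b d : ℕ} (hσ : IsV ι p σ b) (hτ : IsV ι p τ d) (hb : b < p ^ a)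
    (hd : d < p ^ a) (hov : ∀ l < a, b / p ^ l % p + d / p ^ l % p < p) (β : A →ₗ[k] B →ₗ[k] V)
    (he : ∀ g x y, β (σ g x) (τ g y) = r g (β x y)) (hno : ∀ c ∈ cg p a b d, ¬ InSoc ι p r c) (x : A) (y : B) :
    β x y = 0 := by
  have hp : p.Prime := Fact.out
  have h1 : ∀ g z, TensorProduct.lift β (σ.tprod τ g z) = r g (TensorProduct.lift β z) := by
    intro g z
    induction z using TensorProduct.induction_on with
    | zero => rw [map_zero, map_zero, map_zero]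
    | tmul y z =>
      rw [Representation.tprod_apply, TensorProduct.map_tmul, TensorProduct.lift.tmul, TensorProduct.lift.tmul]
      exact he g y z
    | add y z hy hz => rw [map_add, map_add, hy, hz, map_add, map_add]
  have hcf : cf (Sy.{u, u, w} ι p) (σ.tprod τ) = cg p a b d := by
    refine cf_of_cs ι p hK (fun c hc => (mem_cg hp.pos a hov hc).1) fun z hz => ?_
    rw [cs_tens ι p hK _ _ hz, cf_irr (Sy.{u, u, w} ι p) hσ, cf_irr (Sy.{u, u, w} ι p) hτ, cs_singleton,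
      cs_singleton, cs_cg k p a hb hd hov (hz.ne_zero (two_le_q p hK))]
  have h2 := _root_.Cfsg.Agent.R2.H28.SL2.map_eq_zero ι p (σ.tprod τ) r (TensorProduct.lift β) h1 (by rw [hcf]; exact hno)
  have h3 : TensorProduct.lift β (x ⊗ₜ y) = β x y := TensorProduct.lift.tmul x y
  rw [h2, LinearMap.zero_apply] at h3
  exact h3.symm

end

/-- **products of two submodules** -/
theorem All22.mixed (S : All22 ι p a ψ ρ ρ') {X X' : Submodule k (I27 → k)} {i j i' j' : ℕ}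
    (T : X22 ι p a (Rr ρ ψ) X i j) (T' : X22 ι p a (Rr ρ ψ) X' i' j') (hinf : X ⊓ X' = ⊥)
    {x y : I27 → k} (hx : x ∈ X) (hy : y ∈ X') (hxy : cr x y ≠ 0) :
    ∃ q j₁ j₂, q ≠ j₁ ∧ q ≠ j₂ ∧ j₁ ≠ j₂ ∧ ((i = q ∧ j = j₁) ∨ (i = j₁ ∧ j = q)) ∧
      ((i' = q ∧ j' = j₂) ∨ (i' = j₂ ∧ j' = q)) ∧ 2 * p ^ j₁ + 2 * p ^ j₂ ∈ cf (Sy.{u, u, w} ι p) (Rr ρ ψ) := by
  have hp : p.Prime := Fact.out
  have h5 := S.five
  have f := S.fra
  obtain ⟨hX, hb⟩ := T.isv
  obtain ⟨hX', hb'⟩ := T'.isv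
  have hd : ¬ ((i = i' ∧ j = j') ∨ (i = j' ∧ j = i')) := by
    rintro (⟨rfl, rfl⟩ | ⟨rfl, rfl⟩)
    · exact S.mult_one T T' hinf
    · exact S.mult_one T T'.symm hinf
  have hov : ∀ l < a, (2 * p ^ i + 2 * p ^ j) / p ^ l % p + (2 * p ^ i' + 2 * p ^ j') / p ^ l % p < p := by
    intro l _
    rw [Cfsg.Agent.R2.H14.T.dg_two hp.one_lt (x := 2) (y := 2) (by omega) (by omega) T.ne l,
      Cfsg.Agent.R2.H14.T.dg_two hp.one_lt (x := 2) (y := 2) (by omega) (by omega) T'.ne l]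
    split_ifs <;> omega
  by_contra hcon
  refine hxy (prod_zero (ι := ι) f.card hb hb' (pair_lt p (by omega) (by omega) T.ne T.hi T.hj)
    (pair_lt p (by omega) (by omega) T'.ne T'.hi T'.hj) hov ((crB k).compl₁₂ X.subtype X'.subtype)
    (r := Rr ρ' ψ) (fun g x y => pair_cr f.pair (ψ g) _ _) ?_ ⟨x, hx⟩ ⟨y, hy⟩)
  intro c hc hs
  have hm := hs.mem_cf
  rw [f.cf_eq ι] at hm
  obtain ⟨m, n, hmn, -, -, rfl⟩ := S.all c hm
  obtain ⟨q, j₁, j₂, h1, h2, h3, h4, h6, h7⟩ := digits_mixed h5 T.ne T.hi T.hj T'.ne T'.hi T'.hj hmn hd hc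
  refine hcon ⟨q, j₁, j₂, h1, h2, h3, h4, h6, ?_⟩
  rcases h7 with ⟨rfl, rfl⟩ | ⟨rfl, rfl⟩
  · exact hm
  · rwa [add_comm] at hm

omit [DecidableEq k] [IsAlgClosed k] [DecidableEq K] [CharP k p] [CharP K p] in
/-- labels determine the digits -/
theorem pair_eq (h5 : 5 ≤ p) {i j m n : ℕ} (hij : i ≠ j) (hmn : m ≠ n)
    (h : 2 * p ^ i + 2 * p ^ j = 2 * p ^ m + 2 * p ^ n) : (i = m ∧ j = n) ∨ (i = n ∧ j = m) := by
  have hp : p.Prime := Fact.out
  have d1 := fun l => Cfsg.Agent.R2.H14.T.dg_two hp.one_lt (x := 2) (y := 2) (by omega) (by omega) hij l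
  have d2 := fun l => Cfsg.Agent.R2.H14.T.dg_two hp.one_lt (x := 2) (y := 2) (by omega) (by omega) hmn l
  rw [h] at d1
  have e1 := (d1 i).symm.trans (d2 i)
  have e2 := (d1 j).symm.trans (d2 j)
  rw [if_pos rfl] at e1
  rw [if_neg (Ne.symm hij), if_pos rfl] at e2
  by_contra hcon
  split_ifs at e1 e2 <;> omega

/-- three submodules with a triangle of labels -/
theorem triangle_of (hij : ∃ q j₁ j₂ : ℕ, q ≠ j₁ ∧ q ≠ j₂ ∧ j₁ ≠ j₂ ∧ q < a ∧ j₁ < a ∧ j₂ < a ∧
      ∃ X₀ X₁ X₂, X22 ι p a (Rr ρ ψ) X₀ q j₁ ∧ X22 ι p a (Rr ρ ψ) X₁ q j₂ ∧ X22 ι p a (Rr ρ ψ) X₂ j₁ j₂)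
    (h5 : 5 ≤ p) : ∃ (i : Fin 3 → ℕ) (_ : Dg3 p a i) (X : Fin 3 → Submodule k (I27 → k))
      (hX : ∀ c s, ∀ x ∈ X c, Rr ρ ψ s x ∈ X c), ∀ c, IsV ι p (subRep (Rr ρ ψ) (X c) (hX c)) (bw p i c) := by
  obtain ⟨q, j₁, j₂, h1, h2, h3, hq, hj₁, hj₂, X₀, X₁, X₂, T₀, T₁, T₂⟩ := hij
  have key : ∀ c : Fin 3, ∃ (X : Submodule k (I27 → k)) (hX : ∀ s, ∀ x ∈ X, Rr ρ ψ s x ∈ X),
      IsV ι p (subRep (Rr ρ ψ) X hX) (bw p ![q, j₁, j₂] c) := by
    intro c
    fin_cases c
    · obtain ⟨hX, h⟩ := T₂.isv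
      exact ⟨X₂, hX, h⟩
    · obtain ⟨hX, h⟩ := T₁.symm.isv
      exact ⟨X₁, hX, h⟩
    · obtain ⟨hX, h⟩ := T₀.isv
      exact ⟨X₀, hX, h⟩
  choose X hX hV using key
  refine ⟨![q, j₁, j₂], ⟨Or.inr h5, ?_, ?_⟩, X, hX, hV⟩
  · have key : ∀ c d : Fin 3, (![q, j₁, j₂] : Fin 3 → ℕ) c = (![q, j₁, j₂] : Fin 3 → ℕ) d → c = d := by
      intro c d hcd
      fin_cases c <;> fin_cases d <;>
        first | rfl | exact absurd hcd h1 | exact absurd hcd h1.symm | exact absurd hcd h2 | exact absurd hcd h2.symm |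
          exact absurd hcd h3 | exact absurd hcd h3.symm
    exact fun c d hcd => key c d hcd
  · intro c
    fin_cases c
    · exact hq
    · exact hj₁
    · exact hj₂

theorem card22 (S : All22 ι p a ψ ρ ρ') {m n : ℕ} (hmn : m ≠ n) (hm : m < a) (hn : n < a) :
    (Bf k (2 * p ^ m + 2 * p ^ n)).card = 9 := by
  have h5 := S.five
  have hb : 2 * p ^ m + 2 * p ^ n ≤ Fintype.card K - 1 := by
    have h1 := pair_lt (a := a) p (n := 2) (m := 2) (by omega) (by omega) hmn hm hn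
    rw [S.fra.card]
    omega
  have hV : IsV ι p (RB ι p hb) (2 * p ^ m + 2 * p ^ n) := ⟨hb, LinearEquiv.refl k _, fun _ _ => rfl⟩
  rw [← IsV.finrank ι hV]
  exact hV.dim_pair ι S.fra.card (by omega) (by omega) hmn hm hn

/-- the composition factors -/
theorem All22.cf_three (S : All22 ι p a ψ ρ ρ') {X₀ X₁ X₂ : Submodule k (I27 → k)} {i₀ j₀ i₁ j₁ i₂ j₂ : ℕ}
    (T₀ : X22 ι p a (Rr ρ ψ) X₀ i₀ j₀) (T₁ : X22 ι p a (Rr ρ ψ) X₁ i₁ j₁) (T₂ : X22 ι p a (Rr ρ ψ) X₂ i₂ j₂)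
    (b01 : X₀ ⊓ X₁ = ⊥) (b02 : X₀ ⊓ X₂ = ⊥) (b12 : X₁ ⊓ X₂ = ⊥) {c : ℕ} (hc : c ∈ cf (Sy.{u, u, w} ι p) (Rr ρ ψ)) :
    c = 2 * p ^ i₀ + 2 * p ^ j₀ ∨ c = 2 * p ^ i₁ + 2 * p ^ j₁ ∨ c = 2 * p ^ i₂ + 2 * p ^ j₂ := by
  have h5 := S.five
  have ne : ∀ {X X' : Submodule k (I27 → k)} {i j i' j' : ℕ}, X22 ι p a (Rr ρ ψ) X i j → X22 ι p a (Rr ρ ψ) X' i' j' →
      X ⊓ X' = ⊥ → 2 * p ^ i + 2 * p ^ j ≠ 2 * p ^ i' + 2 * p ^ j' := by
    intro X X' i j i' j' T T' hb h
    rcases pair_eq h5 T.ne T'.ne h with ⟨rfl, rfl⟩ | ⟨rfl, rfl⟩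
    · exact S.mult_one T T' hb
    · exact S.mult_one T T'.symm hb
  have hm : ∀ {X : Submodule k (I27 → k)} {i j : ℕ}, X22 ι p a (Rr ρ ψ) X i j →
      2 * p ^ i + 2 * p ^ j ∈ cf (Sy.{u, u, w} ι p) (Rr ρ ψ) := by
    intro X i j T
    obtain ⟨hX, h⟩ := T.isv
    exact InSoc.mem_cf ι p ⟨X, hX, h⟩
  by_contra hcon
  push Not at hcon
  have hle : ({c, 2 * p ^ i₀ + 2 * p ^ j₀, 2 * p ^ i₁ + 2 * p ^ j₁, 2 * p ^ i₂ + 2 * p ^ j₂} : Multiset ℕ) ≤
      cf (Sy.{u, u, w} ι p) (Rr ρ ψ) := by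
    rw [Multiset.le_iff_subset]
    · intro x hx
      simp only [Multiset.insert_eq_cons, Multiset.mem_cons, Multiset.mem_singleton] at hx
      rcases hx with rfl | rfl | rfl | rfl
      · exact hc
      · exact hm T₀
      · exact hm T₁
      · exact hm T₂
    · simp only [Multiset.insert_eq_cons, Multiset.nodup_cons, Multiset.mem_cons, Multiset.mem_singleton,
        Multiset.nodup_singleton, not_or, and_true]
      exact ⟨⟨hcon.1, hcon.2.1, hcon.2.2⟩, ⟨ne T₀ T₁ b01, ne T₀ T₂ b02⟩, ne T₁ T₂ b12⟩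
  have h9 := finrank_cf ι p _ _ (Rr ρ ψ) le_rfl
  obtain ⟨t, ht⟩ := Multiset.le_iff_exists_add.1 hle
  have h11 : Module.finrank k (I27 → k) = 27 := by
    rw [Module.finrank_fintype_fun_eq_card]
    rfl
  obtain ⟨m, n, hmn, hma, hna, rfl⟩ := S.all c hc
  rw [ht, h11] at h9
  simp only [Multiset.insert_eq_cons, Multiset.cons_add, Multiset.singleton_add, Multiset.map_cons, Multiset.sum_cons,
    card22 S hmn hma hna, card22 S T₀.ne T₀.hi T₀.hj, card22 S T₁.ne T₁.hi T₁.hj, card22 S T₂.ne T₂.hi T₂.hj] at h9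
  omega

/-- the triangle -/
theorem All22.tri_aux (S : All22 ι p a ψ ρ ρ') {X₀ X₁ X₂ : Submodule k (I27 → k)} {i₀ j₀ i₁ j₁ i₂ j₂ : ℕ}
    (T₀ : X22 ι p a (Rr ρ ψ) X₀ i₀ j₀) (T₁ : X22 ι p a (Rr ρ ψ) X₁ i₁ j₁) (T₂ : X22 ι p a (Rr ρ ψ) X₂ i₂ j₂)
    (b01 : X₀ ⊓ X₁ = ⊥) (b02 : X₀ ⊓ X₂ = ⊥) (b12 : X₁ ⊓ X₂ = ⊥) {x y : I27 → k} (hx : x ∈ X₀) (hy : y ∈ X₁)
    (hxy : cr x y ≠ 0) : ∃ q j₁ j₂ : ℕ, q ≠ j₁ ∧ q ≠ j₂ ∧ j₁ ≠ j₂ ∧ q < a ∧ j₁ < a ∧ j₂ < a ∧
      ∃ X₀ X₁ X₂, X22 ι p a (Rr ρ ψ) X₀ q j₁ ∧ X22 ι p a (Rr ρ ψ) X₁ q j₂ ∧ X22 ι p a (Rr ρ ψ) X₂ j₁ j₂ := by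
  have h5 := S.five
  obtain ⟨q, l₁, l₂, h1, h2, h3, h4, h6, h7⟩ := S.mixed T₀ T₁ b01 hx hy hxy
  have hT₀ : X22 ι p a (Rr ρ ψ) X₀ q l₁ := by
    rcases h4 with ⟨rfl, rfl⟩ | ⟨rfl, rfl⟩
    · exact T₀
    · exact T₀.symm
  have hT₁ : X22 ι p a (Rr ρ ψ) X₁ q l₂ := by
    rcases h6 with ⟨rfl, rfl⟩ | ⟨rfl, rfl⟩
    · exact T₁
    · exact T₁.symm
  refine ⟨q, l₁, l₂, h1, h2, h3, hT₀.hi, hT₀.hj, hT₁.hj, X₀, X₁, X₂, hT₀, hT₁, ?_⟩
  rcases S.cf_three hT₀ hT₁ T₂ b01 b02 b12 h7 with h | h | h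
  · exfalso
    have := pair_eq h5 h3 h1 h
    omega
  · exfalso
    have := pair_eq h5 h3 h2 h
    (clear * - h1 this; omega)
  · rcases pair_eq h5 h3 T₂.ne h with ⟨rfl, rfl⟩ | ⟨rfl, rfl⟩
    · exact T₂
    · exact T₂.symm

/-- **the types form a triangle** -/
theorem All22.triangle (S : All22 ι p a ψ ρ ρ') : ∃ (i : Fin 3 → ℕ) (_ : Dg3 p a i) (X : Fin 3 → Submodule k (I27 → k))
      (hX : ∀ c s, ∀ x ∈ X c, Rr ρ ψ s x ∈ X c), ∀ c, IsV ι p (subRep (Rr ρ ψ) (X c) (hX c)) (bw p i c) := by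
  have h5 := S.five
  obtain ⟨X₀, X₁, X₂, i₀, j₀, i₁, j₁, i₂, j₂, T₀, T₁, T₂, b01, b02, b12, htop⟩ := S.exists_three
  refine triangle_of ?_ h5
  obtain ⟨m, hm, hm0⟩ : ∃ m ∈ X₀, m ≠ 0 := by
    by_contra hcon
    push Not at hcon
    have h1 : X₀ = ⊥ := by
      rw [eq_bot_iff]
      intro x hx
      exact (Submodule.mem_bot k).2 (hcon x hx)
    have h2 := T₀.nine S
    rw [h1, finrank_bot] at h2
    omega
  have h1 := finrank_kr_le hm0
  have h3 := Submodule.finrank_sup_add_finrank_inf_eq X₁ X₂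
  rw [b12, finrank_bot, T₁.nine S, T₂.nine S] at h3
  have hle : ¬ X₁ ⊔ X₂ ≤ kr m := by
    intro hle
    have := Submodule.finrank_mono hle
    omega
  by_cases hc1 : X₁ ≤ kr m
  · have hc2 : ¬ X₂ ≤ kr m := fun h => hle (sup_le hc1 h)
    obtain ⟨y, hy, hxy⟩ := Set.not_subset.1 hc2
    exact S.tri_aux T₀ T₂ T₁ b02 b01 (by rw [inf_comm]; exact b12) hm hy fun h => hxy (mem_kr.2 h)
  · obtain ⟨y, hy, hxy⟩ := Set.not_subset.1 hc1
    exact S.tri_aux T₀ T₁ T₂ b01 b02 b12 hm hy fun h => hxy (mem_kr.2 h)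

end Cfsg.Agent.R2.H8.Core
end

-- part: R2/H8/Core/Pat
section
/-!
# S5749, S5750: the composition pattern of the 27-dimensional module, by the characteristic (helper8)
-/

set_option autoImplicit false
set_option linter.unusedSectionVars false
set_option maxHeartbeats 400000

namespace Cfsg.Agent.R2.H8.Core

open Cfsg Cfsg.Lie Module Matrix
open Cfsg.Agent.ChevalleyStructure
open Cfsg.Agent.ChevalleyStructure.E6Min.Basic Cfsg.Agent.ChevalleyStructure.E6Min.Adjoint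
open Cfsg.Agent.H163.E6
open Cfsg.Agent.H943.SL2Rel Cfsg.Agent.H943.SL2Mod Cfsg.Agent.H943.RepAdd Cfsg.Agent.R2.H28.SL2 Cfsg.Agent.R2.SL2
open Cfsg.Agent.R2.H9.E6 Cfsg.Agent.R2.H8.NoFix.Two Cfsg.Agent.R2.H8.NoFix.Pat
open Cfsg.Agent.H952.F4 (ev)
open Cfsg.Agent.R2.H8.NoFix

universe u w

variable {F : Type u} [Field F] [Fintype F] {K : Type w} [Field K] [Fintype K] [DecidableEq K]
  [DecidableEq (AlgebraicClosure F)]

/-- **the pattern** -/
theorem exists_pat' {p a : ℕ} [Fact p.Prime] [CharP F p] [CharP K p] [CharP (AlgebraicClosure F) p]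
    (hK : Fintype.card K = p ^ a)
    (κ : K →+* AlgebraicClosure F)
    {φ : ProjectiveSpecialLinearGroup (Fin 2) K →* ↥(Zgrp (AlgebraicClosure F))} (hφ : Function.Injective φ) :
    ∃ w : List (List ℕ), ((5 ≤ p ∧ w ∈ listE6) ∨ (p = 3 ∧ w ∈ listE6_3) ∨ (p = 2 ∧ w ∈ listE6_2)) ∧
      (w : Multiset (List ℕ)) = (cf (Sy.{u, u, w} κ p) (Rr (V (AlgebraicClosure F)) (φ.comp pq))).map (tyl p) := by
  have hT := Tor.tab_closed p (F := F)
  set ρ := Rr (V (AlgebraicClosure F)) (φ.comp pq) with hρ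
  have H := isMult_cf κ p hK ρ
  have hms := ms_count (cf_lt.{u, u, w} κ p hK ρ)
  have hd : finrank (AlgebraicClosure F) (I27 → AlgebraicClosure F) = 27 := by
    rw [Module.finrank_fintype_fun_eq_card]
    rfl
  have hc : ρ (Cfsg.Agent.H943.SL2Rel.h (-1)) = 1 := by
    show V (AlgebraicClosure F) (φ (pq (Cfsg.Agent.H943.SL2Rel.h (-1)))) = 1
    rw [pq_neg, map_one, map_one]
  have h4 : p ≠ 2 → finrank (AlgebraicClosure F) (eig ρ (g4 K) 1) = 15 ∨
      finrank (AlgebraicClosure F) (eig ρ (g4 K) 1) = 11 := by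
    intro hp2
    rw [eig_eq]
    have h1 := hT.two hp2 (φ (pq (g4 K))) (fun h => g4_facts.1 (hφ (by rw [h, map_one])))
      (by rw [← map_mul, g4_facts.2, map_one])
    rcases h1 with h1 | h1
    · exact Or.inl h1.1
    · exact Or.inr h1.1
  have h3 : p ≠ 3 → finrank (AlgebraicClosure F) (eig ρ (g3 K) 1) = 15 ∨
      finrank (AlgebraicClosure F) (eig ρ (g3 K) 1) = 9 := by
    intro hp3
    have h1 := hT.three hp3 (φ (pq (g3 K))) (by
      intro h
      have h2 := (Cfsg.Agent.H65.E6Ext.ker_pow h).2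
      have h5 : pq (g3 K) ∈ Subgroup.center (ProjectiveSpecialLinearGroup (Fin 2) K) := by
        rw [Subgroup.mem_center_iff]
        intro x
        apply hφ
        rw [map_mul, map_mul]
        exact h2 _
      rw [psl_center, Subgroup.mem_bot] at h5
      exact g3_facts.1 h5) (by rw [← map_pow, g3_facts.2, map_one])
    have h6 := three_sum (p := p) hp3 (cf (Sy.{u, u, w} κ p) ρ)
    have h7 := dimS_cf.{u, u, w} κ p hK ρ
    have h8 := ev_three H hp3
    rw [hms] at h8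
    rw [h7, hd, h8] at h6
    rw [eig_eq] at h6 ⊢
    rcases h1 with h1 | h1 | h1 | h1
    · exact Or.inl h1.1
    · exact Or.inr h1.1
    · exact Or.inr h1.1
    · exfalso
      have h9 : ev (ρ (g3 K)) 1 = 6 := h1.1
      rw [h9] at h6
      omega
  have hp := (Fact.out : p.Prime)
  have h2p := hp.two_le
  rcases Nat.lt_or_ge 4 p with h5 | h5
  · obtain ⟨w, hw, hw'⟩ := isMult_patE6 H (by omega) hc hd (h4 (by omega)) (h3 (by omega))
    rw [hms] at hw'
    exact ⟨w, Or.inl ⟨by omega, hw⟩, hw'⟩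
  · have h23 : p = 2 ∨ p = 3 := by
      have : p ≠ 4 := by
        rintro rfl
        exact absurd hp (by norm_num)
      omega
    rcases h23 with h23 | h23
    · obtain ⟨w, hw, hw'⟩ := isMult_patE6_two H h23 hd (h3 (by omega))
      rw [hms] at hw'
      exact ⟨w, Or.inr (Or.inr ⟨h23, hw⟩), hw'⟩
    · obtain ⟨w, hw, hw'⟩ := isMult_patE6_three H h23 hc hd (h4 (by omega))
      rw [hms] at hw'
      exact ⟨w, Or.inr (Or.inl ⟨h23, hw⟩), hw'⟩


end Cfsg.Agent.R2.H8.Core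
end

-- part: R2/H6P2/TwC
section
/-!
# S5749, S5750, box P2: counting totally singular subspaces of dimension 2 (helper6)

`card_ts2` : their number is at most `27 |F|^33`; `tw_false` : in `²E₆(q)` a maximal subgroup of the type considered does
not stabilize such a subspace, if `q_A ≤ q²`.
-/

set_option autoImplicit false
set_option linter.unusedSectionVars false

namespace Cfsg.Agent.R2.H6P2

open Module Matrix
open Cfsg Cfsg.Lie
open Cfsg.Agent.ChevalleyStructure.E6Min.Basic (Zgrp)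
open Cfsg.Agent.ChevalleyStructure.E6Min.Adjoint (ad)
open Cfsg.Agent.R2.GEO
open Cfsg.Agent.H952.F4 (sh cr tf)
open Cfsg.Agent.H952.F4.Jord
open Cfsg.Agent.H163.E6 (V V' TS)
open Cfsg.Agent.H944.E6Tw Cfsg.Agent.H163.E6.Tw
open Cfsg.Agent.R2.H9.E6

universe u v w x

/-- **the number of totally singular subspaces of dimension 2** -/
theorem card_ts2 {F : Type u} [Field F] [Finite F] :
    Nat.card {W : Submodule F (I27 → F) // finrank F W = 2 ∧ ∀ w ∈ W, sh w = 0} * Nat.card F ≤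
      27 * Nat.card F ^ 34 := by
  classical
  have := Fintype.ofFinite F
  have hT : Nat.card (Σ v : {v : I27 → F // v ≠ 0 ∧ sh v = 0}, ↥(kr v.1)) =
      Nat.card {v : I27 → F // v ≠ 0 ∧ sh v = 0} * Nat.card F ^ 17 := by
    have := Fintype.ofFinite {v : I27 → F // v ≠ 0 ∧ sh v = 0}
    rw [Nat.card_sigma, Finset.sum_congr rfl (fun v _ => by
      rw [Module.natCard_eq_pow_finrank (K := F), finrank_kr_white v.2.1 v.2.2]), Finset.sum_const, Finset.card_univ,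
      smul_eq_mul, Nat.card_eq_fintype_card (α := {v : I27 → F // v ≠ 0 ∧ sh v = 0})]
  have h1 := Cfsg.Agent.H163.E6.Tw.card_sing (F := F)
  have h2 : Nat.card (Σ v : {v : I27 → F // v ≠ 0 ∧ sh v = 0}, ↥(kr v.1)) ≤ 27 * Nat.card F ^ 34 := by
    rw [hT]
    calc Nat.card {v : I27 → F // v ≠ 0 ∧ sh v = 0} * Nat.card F ^ 17 ≤ 27 * Nat.card F ^ 17 * Nat.card F ^ 17 :=
          Nat.mul_le_mul_right _ h1
      _ = _ := by ring
  refine le_trans ?_ h2
  rw [← Nat.card_prod]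
  -- a choice of bases
  have hb : ∀ W : {W : Submodule F (I27 → F) // finrank F W = 2 ∧ ∀ w ∈ W, sh w = 0}, ∃ p : (I27 → F) × (I27 → F),
      p.1 ≠ 0 ∧ Submodule.span F {p.1, p.2} = W.1 := by
    rintro ⟨W, hW, -⟩
    let b := Module.finBasisOfFinrankEq F W hW
    refine ⟨((b 0 : W), (b 1 : W)), fun h => b.ne_zero 0 (Subtype.ext h), ?_⟩
    have h3 := congrArg (Submodule.map W.subtype) b.span_eq
    rw [Submodule.map_span, Submodule.map_top, Submodule.range_subtype, ← Set.range_comp] at h3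
    refine (congrArg (Submodule.span F) ?_).trans h3
    ext v
    simp only [Set.mem_insert_iff, Set.mem_singleton_iff, Set.mem_range, Function.comp_apply, Fin.exists_fin_two]
    exact ⟨fun h => h.imp Eq.symm Eq.symm, fun h => h.imp Eq.symm Eq.symm⟩
  choose p hp0 hp using hb
  have hmem : ∀ W : {W : Submodule F (I27 → F) // finrank F W = 2 ∧ ∀ w ∈ W, sh w = 0}, (p W).1 ∈ W.1 ∧ (p W).2 ∈ W.1 := by
    intro W
    rw [← hp W]
    exact ⟨Submodule.subset_span (Or.inl rfl), Submodule.subset_span (Or.inr rfl)⟩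
  refine Nat.card_le_card_of_injective (fun Ws => (⟨⟨(p Ws.1).1, hp0 Ws.1, Ws.1.2.2 _ (hmem Ws.1).1⟩,
    (p Ws.1).2 + Ws.2 • (p Ws.1).1, ?_⟩ : Σ v : {v : I27 → F // v ≠ 0 ∧ sh v = 0}, ↥(kr v.1))) ?_
  · show cr (p Ws.1).1 ((p Ws.1).2 + Ws.2 • (p Ws.1).1) = 0
    exact (Cfsg.Agent.H65.SixA.cr_of_sh Ws.1.2.2).2 _ (hmem Ws.1).1 _
      (Submodule.add_mem _ (hmem Ws.1).2 (Submodule.smul_mem _ _ (hmem Ws.1).1))
  · rintro ⟨W, s⟩ ⟨W', s'⟩ h
    have e1 : (p W).1 = (p W').1 := congrArg (fun z => z.1.1) h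
    have e2 : (p W).2 + s • (p W).1 = (p W').2 + s' • (p W').1 :=
      (congrArg (fun z : Σ v : {v : I27 → F // v ≠ 0 ∧ sh v = 0}, ↥(kr v.1) => (z.2 : I27 → F)) h :)
    have hle : ∀ (W W' : {W : Submodule F (I27 → F) // finrank F W = 2 ∧ ∀ w ∈ W, sh w = 0}) (s s' : F),
        (p W).1 = (p W').1 → (p W).2 + s • (p W).1 = (p W').2 + s' • (p W').1 → W.1 ≤ W'.1 := by
      intro W W' s s' e1 e2
      rw [← hp W, Submodule.span_le]
      intro z hz
      rcases hz with hz | hz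
      · rw [hz, e1]
        exact (hmem W').1
      · rw [Set.mem_singleton_iff.1 hz]
        have e3 : (p W).2 = (p W').2 + s' • (p W').1 - s • (p W).1 := by
          rw [← e2, add_sub_cancel_right]
        rw [e3, e1]
        exact Submodule.sub_mem _ (Submodule.add_mem _ (hmem W').2 (Submodule.smul_mem _ _ (hmem W').1))
          (Submodule.smul_mem _ _ (hmem W').1)
    have e3 : W = W' := Subtype.ext (le_antisymm (hle W W' s s' e1 e2) (hle W' W s' s e1.symm e2.symm))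
    subst e3
    have e4 : (s - s') • (p W).1 = 0 := by
      rw [sub_smul, sub_eq_zero]
      exact add_left_cancel e2
    have e5 : s = s' := sub_eq_zero.1 ((smul_eq_zero.1 e4).resolve_right (hp0 W))
    rw [e5]

/-- **the twisted case** -/
theorem tw_false {L : Type u} [Field L] [Fintype L] {a b : ℕ} {f : L →+* L}
    (hf : ∀ t, f t = t ^ (2 ^ b)) (hqq : ∀ t : L, (t ^ (2 ^ b)) ^ (2 ^ b) = t) (hL : Fintype.card L = (2 ^ b) ^ 2)
    {M : Subgroup ↥(Zgrp L)} {K : Type v} [Field K] [Fintype K]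
    {ψ : ProjectiveSpecialLinearGroup (Fin 2) K →* ↥(Zgrp L)} (h : Setup (Gs f) M ψ) (ha : 1 ≤ a) (hb : 1 ≤ b)
    (hK : Fintype.card K = 2 ^ a) (h7 : 7 ≤ Fintype.card K) (hab : a ≤ 2 * b)
    {ρ : Representation L ↥(Zgrp L) (I27 → L)} (hρ : ρ = V L ∨ ρ = V' L) {W : Submodule L (I27 → L)}
    (hd : finrank L W = 2) (hts : ∀ w ∈ W, sh w = 0) (hW : ∀ g ∈ M, ∀ w ∈ W, ρ g w ∈ W) : False := by
  have hfact : Fact (Nat.Prime 2) := ⟨Nat.prime_two⟩
  have hpp : IsPrimePow (2 ^ b) := Nat.prime_two.isPrimePow.pow (by omega)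
  have h9 : finrank L (I27 → L) = 27 := by rw [finrank_fintype_fun_eq_card]; rfl
  have hbot : W ≠ ⊥ := by
    rintro rfl
    rw [finrank_bot] at hd
    omega
  have htop : W ≠ ⊤ := by
    rintro rfl
    rw [finrank_top, h9] at hd
    omega
  have hSG := h.SG_eq hρ hW hbot htop
  let _ := subAct (Gs f) ρ
  have h2 := h.card_le' (X := Submodule L (I27 → L)) W {U | finrank L ↥U = 2 ∧ ∀ w ∈ U, sh w = 0} (fun g => by
    refine ⟨?_, ?_⟩
    · show finrank L ↥(W.map (ρ g)) = 2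
      rw [finrank_map_rho, hd]
    · show ∀ w ∈ W.map (ρ g), sh w = 0
      rintro _ ⟨w, hw, rfl⟩
      have h3 : sh (ρ g w) = 0 := by
        rcases hρ with rfl | rfl
        · rw [Cfsg.Agent.H163.E6.Act.sh_act, hts w hw, map_zero]
        · rw [Cfsg.Agent.H163.E6.Act.sh_act', hts w hw, map_zero]
      exact h3) (fun g hg => by
    have hg' : W.map (ρ g) = W := hg
    rw [← hSG]
    refine mem_SG.2 ⟨g.2, fun w => ⟨fun hw => ?_, fun hw => ?_⟩⟩
    · rw [← hg'] at hw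
      obtain ⟨w', hw', h3⟩ := hw
      have h4 := congrArg (ρ (g : ↥(Zgrp L))⁻¹) h3
      rw [← Cfsg.Agent.H163.E6.rho_mul, ← Cfsg.Agent.H163.E6.rho_mul, inv_mul_cancel, map_one] at h4
      have h5 : w' = w := h4
      rwa [← h5]
    · rw [← hg']
      exact ⟨w, hw, rfl⟩)
  have h3 := card_ts2 (F := L)
  rw [Nat.card_eq_fintype_card (α := L), hL] at h3
  rw [card_map_Gs hpp hL hf hqq] at h2
  have h4 := card_tw_ge hpp hL
  have h5 := card_aut_le ha hK (by omega)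
  have hb2 : 2 ≤ b := by
    by_contra hcon
    have h6 : a ≤ 2 := by omega
    have h8 : 2 ^ a ≤ 2 ^ 2 := Nat.pow_le_pow_right (by norm_num) h6
    omega
  have h6 : (2 ^ a) ^ 3 ≤ (2 ^ b) ^ 6 := by
    rw [← pow_mul, ← pow_mul]
    exact Nat.pow_le_pow_right (by norm_num) (by omega)
  have hbq : b ≤ 2 ^ b := Nat.lt_two_pow_self.le
  have hq4 : 4 ≤ 2 ^ b := by
    calc 4 = 2 ^ 2 := rfl
      _ ≤ 2 ^ b := Nat.pow_le_pow_right (by norm_num) hb2
  set q := 2 ^ b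
  set N := Nat.card ↥(Cfsg.Lie.twistedE6 L q)
  set X := Nat.card (MulAut (ProjectiveSpecialLinearGroup (Fin 2) K))
  have h2' : N ≤ X * Nat.card {W : Submodule L (I27 → L) // finrank L W = 2 ∧ ∀ w ∈ W, sh w = 0} := h2
  set T := Nat.card {W : Submodule L (I27 → L) // finrank L W = 2 ∧ ∀ w ∈ W, sh w = 0}
  have h10 : X ≤ 2 * q * q ^ 6 := by
    calc X ≤ a * (2 ^ a) ^ 3 := h5
      _ ≤ (2 * q) * q ^ 6 := Nat.mul_le_mul (by omega) h6
  have h7 : 5 * q ^ 80 ≤ 1296 * q ^ 75 := by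
    calc 5 * q ^ 80 = (5 * q ^ 78) * q ^ 2 := by ring
      _ ≤ (24 * N) * q ^ 2 := Nat.mul_le_mul_right _ h4
      _ ≤ (24 * (X * T)) * q ^ 2 := Nat.mul_le_mul_right _ (Nat.mul_le_mul_left _ h2')
      _ = 24 * X * (T * q ^ 2) := by ring
      _ ≤ 24 * (2 * q * q ^ 6) * (27 * (q ^ 2) ^ 34) := Nat.mul_le_mul (Nat.mul_le_mul_left _ h10) h3
      _ = 1296 * q ^ 75 := by ring
  have h8 : 5 * q ^ 80 = (5 * q ^ 5) * q ^ 75 := by ring
  rw [h8] at h7
  have h11 : 0 < q ^ 75 := by positivity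
  have h12 := Nat.le_of_mul_le_mul_right h7 h11
  have h13 : 4 ^ 5 ≤ q ^ 5 := Nat.pow_le_pow_left hq4 5
  norm_num at h13
  omega

end Cfsg.Agent.R2.H6P2
end

-- part: R2/H6P2/Main
section
/-!
# S5749, S5750, box P2 (helper6)

`p2_false` : there is no configuration in characteristic 2, if `A` has no non-zero fixed vectors on `V` and `V'`.
-/

set_option autoImplicit false
set_option linter.unusedSectionVars false

namespace Cfsg.Agent.R2.H6P2

open Module Matrix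
open Cfsg Cfsg.Lie
open Cfsg.Agent.ChevalleyStructure.E6Min.Basic (Zgrp)
open Cfsg.Agent.H943.SL2Rel Cfsg.Agent.H943.SL2Mod Cfsg.Agent.H943.RepAdd
open Cfsg.Agent.R2.H28.SL2 Cfsg.Agent.R2.SL2 Cfsg.Agent.R2.GEO
open Cfsg.Agent.H163.E6 (V V' TS)
open Cfsg.Agent.H65.E6Emb
open Cfsg.Agent.R2.H9.E6

universe u v w x

/-- an embedding of a finite field of characteristic 2 -/
theorem exists_iota (K : Type v) [Field K] [Finite K] [CharP K 2] (k : Type u) [Field k] [CharP k 2] [IsAlgClosed k] :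
    Nonempty (K →+* k) := by
  have hfact : Fact (Nat.Prime 2) := ⟨Nat.prime_two⟩
  let _ := ZMod.algebra K 2
  let _ := ZMod.algebra k 2
  have h1 : Module.Finite (ZMod 2) K := Module.Finite.of_finite
  have h2 : Algebra.IsAlgebraic (ZMod 2) K := Algebra.IsAlgebraic.of_finite (ZMod 2) K
  exact ⟨(IsAlgClosed.lift (R := ZMod 2) (S := K) (M := k)).toRingHom⟩

/-- **characteristic 2** -/
theorem p2_false {F : Type u} [Field F] [Fintype F] {K : Type v} [Field K] [Fintype K] {a b : ℕ}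
    {Γ M : Subgroup ↥(Zgrp F)} {ψ : ProjectiveSpecialLinearGroup (Fin 2) K →* ↥(Zgrp F)} (h : Cfg 2 a b Γ M ψ)
    (hfix : ∀ ρ : Representation F ↥(Zgrp F) (I27 → F), (ρ = V F ∨ ρ = V' F) →
      ∀ v, (∀ x, ρ (ψ x) v = v) → v = 0) : False := by
  classical
  have hfact : Fact (Nat.Prime 2) := ⟨Nat.prime_two⟩
  have hcF := h.charF
  have hcK := h.charK
  have hck : CharP (AlgebraicClosure F) 2 :=
    charP_of_injective_algebraMap (algebraMap F (AlgebraicClosure F)).injective 2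
  obtain ⟨ι⟩ := exists_iota K (AlgebraicClosure F)
  have hper : commutator (_root_.Matrix.SpecialLinearGroup (Fin 2) K) = ⊤ :=
    Cfsg.Agent.TwoFusion.SLTwoFacts.commutator_eq_top (F := K) (by have := h.seven; omega)
  have ha0 : 0 < a := h.ha
  have hmain : ∀ e : ℕ, Fintype.card F = 2 ^ e → a ∣ e ∧
      ∃ ρ₀ : Representation F ↥(Zgrp F) (I27 → F), (ρ₀ = V F ∨ ρ₀ = V' F) ∧ ∃ W : Submodule F (I27 → F),
        finrank F W = 2 ∧ (∀ w ∈ W, Cfsg.Agent.H952.F4.sh w = 0) ∧ ∀ m ∈ M, ∀ w ∈ W, ρ₀ m w ∈ W := by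
    intro e hF
    have hnf := noFx (algebraMap F (AlgebraicClosure F)) h.set hfix
    obtain ⟨hae, ρ, ρ', hρ, n, x, y, hxy, hx, hy⟩ :=
      r_one ι h.cardK (algebraMap F (AlgebraicClosure F)) hF h.set hper hnf ha0
    exact ⟨hae, m_stable ι h.cardK (algebraMap F (AlgebraicClosure F)) hF h.set hnf ha0 hρ hxy hx hy⟩
  rcases h.fam with ⟨-, hF, hno⟩ | ⟨hF, f, hf, hqq, rfl⟩
  · obtain ⟨-, ρ₀, hρ₀, W, hd, -, hst⟩ := hmain b hF
    exact hno ρ₀ hρ₀ W hst hd
  · obtain ⟨hae, ρ₀, hρ₀, W, hd, hts, hst⟩ := hmain (b * 2) (by rw [hF, ← pow_mul])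
    have hb := h.hb
    have hle := Nat.le_of_dvd (by omega) hae
    exact tw_false hf hqq hF h.set h.ha h.hb h.cardK h.seven (by omega) hρ₀ hd hts hst

end Cfsg.Agent.R2.H6P2
end

-- part: R2/H8/Core/Main
section
/-!
# S5749, S5750: the case distinction (helper8)

`core_two`, `core_three` : no configuration for `p = 2, 3`; `core_five` : the case `p ≥ 5`, from the three remaining
patterns `[4],[8],[12]` (`p ≥ 13`), `[1,1],[4],[8],[8]` (`p = 11`, `a ≥ 2`) and `[],[2],[4],[8],[8]` (`p = 11`, `a = 1`).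
-/

set_option autoImplicit false
set_option linter.unusedSectionVars false
set_option maxHeartbeats 400000

namespace Cfsg.Agent.R2.H8.Core

open Cfsg Cfsg.Lie Module Matrix
open Cfsg.Agent.ChevalleyStructure
open Cfsg.Agent.ChevalleyStructure.E6Min.Basic
open Cfsg.Agent.H943.SL2Rel Cfsg.Agent.H943.SL2Mod Cfsg.Agent.H943.RepAdd
open Cfsg.Agent.R2.H28.SL2
open Cfsg.Agent.H163.E6 (V V')
open Cfsg.Agent.H65.E6Emb
open Cfsg.Agent.R2.GEO (Pair)
open Cfsg.Agent.R2.H9.E6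
open Cfsg.Agent.R2.H22.Loc (Nts)
open Cfsg.Agent.R2.SL2 (tyl listE6 listE6_3 tyl_two)
open Cfsg.Agent.R2.H8.NoFix

universe u v w

theorem exists_iota (p : ℕ) [Fact p.Prime] (K : Type v) [Field K] [Finite K] [CharP K p] (k : Type u) [Field k]
    [CharP k p] [IsAlgClosed k] : Nonempty (K →+* k) := by
  let _ := ZMod.algebra K p
  let _ := ZMod.algebra k p
  have h1 : Module.Finite (ZMod p) K := Module.Finite.of_finite
  have h2 : Algebra.IsAlgebraic (ZMod p) K := Algebra.IsAlgebraic.of_finite (ZMod p) K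
  exact ⟨(IsAlgClosed.lift (R := ZMod p) (S := K) (M := k)).toRingHom⟩

variable {F : Type u} [Field F] [Fintype F] {K : Type v} [Field K] [Fintype K] {p a b : ℕ}
  {Γ M : Subgroup ↥(Zgrp F)} {ψ : ProjectiveSpecialLinearGroup (Fin 2) K →* ↥(Zgrp F)}

/-- the representation over the algebraic closure -/
noncomputable abbrev psk (ψ : ProjectiveSpecialLinearGroup (Fin 2) K →* ↥(Zgrp F)) :
    _root_.Matrix.SpecialLinearGroup (Fin 2) K →* ↥(Zgrp (AlgebraicClosure F)) :=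
  (emb (algebraMap F (AlgebraicClosure F))).comp (ψ.comp pq)

/-- **characteristic 2** -/
theorem core_two (h : Cfg 2 a b Γ M ψ) : False :=
  Cfsg.Agent.R2.H6P2.p2_false h fun ρ hρ v hv => NoFix.Main.no_fix h ρ hρ v hv

/-- **characteristic 3** -/
theorem core_three (h : Cfg 3 a b Γ M ψ) : False := by
  classical
  have hfact : Fact (Nat.Prime 3) := ⟨Nat.prime_three⟩
  have hcF := h.charF
  have hcK := h.charK
  have hck : CharP (AlgebraicClosure F) 3 :=
    charP_of_injective_algebraMap (algebraMap F (AlgebraicClosure F)).injective 3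
  obtain ⟨ι⟩ := exists_iota 3 K (AlgebraicClosure F)
  have ha : 3 ≤ a := by
    have h1 := h.seven
    have h2 := h.nine
    rw [h.cardK] at h1 h2
    by_contra hc
    have h3 : a = 0 ∨ a = 1 ∨ a = 2 := by omega
    rcases h3 with rfl | rfl | rfl
    · norm_num at h1
    · norm_num at h1
    · exact h2 (by norm_num)
  obtain ⟨W, hW, hw⟩ := exists_pat' (p := 3) (a := a) h.cardK ι
    (φ := (emb (algebraMap F (AlgebraicClosure F))).comp ψ) ((emb_injective _).comp h.set.inj)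
  have hW3 : W ∈ listE6_3 := by
    rcases hW with ⟨h1, -⟩ | ⟨-, h1⟩ | ⟨h1, -⟩
    · omega
    · exact h1
    · omega
  exact Cfsg.Agent.R2.P3.false_three ι (algebraMap F (AlgebraicClosure F)) h ha
    (fra_of_cfg h (by norm_num) (algebraMap F (AlgebraicClosure F)) (Or.inl ⟨rfl, rfl⟩))
    (nts_of_cfg h (by norm_num) ι (ρ := V (AlgebraicClosure F)) (ρ' := V' (AlgebraicClosure F)) (Or.inl ⟨rfl, rfl⟩))
    (nts_of_cfg h (by norm_num) ι (ρ := V' (AlgebraicClosure F)) (ρ' := V (AlgebraicClosure F)) (Or.inr ⟨rfl, rfl⟩))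
    hW3 hw

/-- **`p ≥ 5`**, from the remaining patterns -/
theorem core_five_of (h : Cfg p a b Γ M ψ) (h5 : 5 ≤ p)
    (mis : ∀ [DecidableEq (AlgebraicClosure F)] [DecidableEq K] [Fact p.Prime] [CharP (AlgebraicClosure F) p] [CharP K p]
      (ι : K →+* AlgebraicClosure F) (W : List (List ℕ)),
      Fra p a (psk ψ) (V (AlgebraicClosure F)) (V' (AlgebraicClosure F)) → Nts (psk ψ) (V (AlgebraicClosure F)) →
      Nts (psk ψ) (V' (AlgebraicClosure F)) → (13 ≤ p ∧ W = [[4], [8], [12]]) ∨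
        (p = 11 ∧ 2 ≤ a ∧ W = [[1, 1], [4], [8], [8]]) ∨ (a = 1 ∧ p = 11 ∧ W = [[], [2], [4], [8], [8]]) →
      (W : Multiset (List ℕ)) = (cf (Sy.{u, u, v} ι p) (Rr (V (AlgebraicClosure F)) (psk ψ))).map (tyl p) → False) :
    False := by
  classical
  have hp := h.prime
  have hfact : Fact p.Prime := ⟨hp⟩
  have hcF := h.charF
  have hcK := h.charK
  have hck : CharP (AlgebraicClosure F) p :=
    charP_of_injective_algebraMap (algebraMap F (AlgebraicClosure F)).injective p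
  obtain ⟨ι⟩ := exists_iota p K (AlgebraicClosure F)
  obtain ⟨W, hW, hw⟩ := exists_pat' (p := p) (a := a) h.cardK ι
    (φ := (emb (algebraMap F (AlgebraicClosure F))).comp ψ) ((emb_injective _).comp h.set.inj)
  have hWm : W ∈ listE6 := by
    rcases hW with ⟨-, h1⟩ | ⟨h1, -⟩ | ⟨h1, -⟩
    · exact h1
    · omega
    · omega
  have hw' : (W : Multiset (List ℕ)) =
      (cf (Sy.{u, u, v} ι p) (Rr (V (AlgebraicClosure F)) (psk ψ))).map (tyl p) := hw
  have f : Fra p a (psk ψ) (V (AlgebraicClosure F)) (V' (AlgebraicClosure F)) :=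
    fra_of_cfg h (by omega) (algebraMap F (AlgebraicClosure F)) (Or.inl ⟨rfl, rfl⟩)
  have nts : Nts (psk ψ) (V (AlgebraicClosure F)) :=
    nts_of_cfg h (by omega) ι (ρ := V (AlgebraicClosure F)) (ρ' := V' (AlgebraicClosure F)) (Or.inl ⟨rfl, rfl⟩)
  have nts' : Nts (psk ψ) (V' (AlgebraicClosure F)) :=
    nts_of_cfg h (by omega) ι (ρ := V' (AlgebraicClosure F)) (ρ' := V (AlgebraicClosure F)) (Or.inr ⟨rfl, rfl⟩)
  have h7 := h.seven
  rw [h.cardK] at h7
  by_cases hq : 9 ≤ p ^ a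
  · rcases f.kills ι h5 hq nts nts' hWm hw' with ⟨ha, rfl⟩ | h1 | h1 | h1
    · have S : All22 ι p a (psk ψ) (V (AlgebraicClosure F)) (V' (AlgebraicClosure F)) := by
        refine ⟨f, h5, fun c hc => ?_⟩
        have h2 : tyl p c ∈ (([[2, 2], [2, 2], [2, 2]] : List (List ℕ)) : Multiset (List ℕ)) := by
          rw [hw']
          exact Multiset.mem_map_of_mem _ hc
        have h3 : tyl p c = [2, 2] := by simpa using h2
        obtain ⟨i, j, hij, rfl⟩ := tyl_two h3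
        have hlt := cf_lt ι p h.cardK _ _ hc
        have hi : i < a := by
          by_contra hc
          have h6 : p ^ a ≤ p ^ i := Nat.pow_le_pow_right (by omega) (by omega)
          omega
        have hj : j < a := by
          by_contra hc
          have h6 : p ^ a ≤ p ^ j := Nat.pow_le_pow_right (by omega) (by omega)
          omega
        exact ⟨i, j, hij, hi, hj, rfl⟩
      obtain ⟨i, D, X, hX, hV⟩ := S.triangle
      exact Cfsg.Agent.R2.H14.T.boxT ι (algebraMap F (AlgebraicClosure F)) h D h5 X hX hV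
    · exact mis ι W f nts nts' (Or.inl h1) hw'
    · exact mis ι W f nts nts' (Or.inr (Or.inl h1)) hw'
    · exact mis ι W f nts nts' (Or.inr (Or.inr h1)) hw'
  · have ha1 := h.ha
    have hpa : p ≤ p ^ a := by
      calc p = p ^ 1 := (pow_one p).symm
        _ ≤ p ^ a := Nat.pow_le_pow_right hp.pos ha1
    have ha : a = 1 := by
      by_contra hc
      have h1 : p ^ 2 ≤ p ^ a := Nat.pow_le_pow_right hp.pos (by omega)
      have h2 : 5 ^ 2 ≤ p ^ 2 := Nat.pow_le_pow_left h5 2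
      omega
    have hp7 : p = 7 := by
      rw [ha, pow_one] at h7 hq
      have h8 : p = 7 ∨ p = 8 := by omega
      rcases h8 with h8 | h8
      · exact h8
      · rw [h8] at hp
        exact absurd hp (by norm_num)
    exact Cfsg.Agent.R2.H22.Q7.q7_false ι f hp7 ha nts nts' (f.kills7 ι hp7 ha hWm hw') hw'

end Cfsg.Agent.R2.H8.Core
end
end
end
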